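import Cfsg.Agent.Mult.Univ
import Cfsg.Agent.CosetEnum.Level

set_option autoImplicit false

/-!
Relative bounds for the kernels of perfect central extensions (owner: helper83).

`MB G n` : the kernel of every finite perfect central extension of `G` has order dividing `n`.
`RB H m` : the same for the extensions in which the subgroup `H` lifts to a homomorphism.
`MB.of_rel` : `H` perfect, `MB H n`, `RB H m` imply `MB G (n * m)`.
-/

namespace Cfsg.Agent.MRel

open Subgroup Mult

universe u v w

/-- perfect central extensions -/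
structure PCE {Γ : Type u} {G : Type v} [Group Γ] [Group G] (σ : Γ →* G) : Prop where
  ce : CE σ
  perf : commutator Γ = ⊤

section

variable {Γ : Type u} {G : Type v} [Group Γ] [Group G] {σ : Γ →* G}

theorem map_comm_surj {A : Type u} {B : Type v} [Group A] [Group B] (f : A →* B) (hf : Function.Surjective f) :
    (commutator A).map f = commutator B := by
  rw [commutator_def, map_commutator, ← MonoidHom.range_eq_map, MonoidHom.range_eq_top.2 hf, ← commutator_def]

theorem perf_of_surj {A : Type u} {B : Type v} [Group A] [Group B] (f : A →* B) (hf : Function.Surjective f)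
    (h : commutator A = ⊤) : commutator B = ⊤ := by
  rw [← map_comm_surj f hf, h, ← MonoidHom.range_eq_map, MonoidHom.range_eq_top.2 hf]

theorem CE.comm_mem {σ : Γ →* G} (C : CE σ) {x : Γ} (hx : σ x = 1) (y : Γ) : x * y = y * x :=
  (mem_center_iff.1 (C.central hx) y).symm

/-- a subgroup that maps onto the quotient of a perfect central extension is everything -/
theorem PCE.top_of_map (P : PCE σ) {L : Subgroup Γ} (h : L.map σ = ⊤) : L = ⊤ := by
  rw [eq_top_iff, ← P.perf, commutator_def, commutator_le]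
  intro a _ b _
  have key : ∀ a : Γ, ∃ a' ∈ L, a'⁻¹ * a ∈ center Γ := by
    intro a
    have : σ a ∈ L.map σ := by rw [h]; exact mem_top _
    obtain ⟨a', ha', h'⟩ := this
    exact ⟨a', ha', P.ce.central (by rw [MonoidHom.mem_ker, map_mul, map_inv, h', inv_mul_cancel])⟩
  obtain ⟨a', ha', h1⟩ := key a
  obtain ⟨b', hb', h2⟩ := key b
  rw [← comm_eq_of_center h1 h2]
  exact L.mul_mem (L.mul_mem (L.mul_mem ha' hb') (L.inv_mem ha')) (L.inv_mem hb')

theorem PCE.base_perf (P : PCE σ) : commutator G = ⊤ := perf_of_surj σ P.ce.surj P.perf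

/-- quotient by a subgroup of the kernel -/
theorem PCE.quot (P : PCE σ) (N : Subgroup Γ) [N.Normal] (hN : N ≤ σ.ker) :
    PCE (QuotientGroup.lift N σ hN) := by
  refine ⟨⟨?_, ?_⟩, ?_⟩
  · intro g
    obtain ⟨x, rfl⟩ := P.ce.surj g
    exact ⟨QuotientGroup.mk x, rfl⟩
  · intro x hx
    obtain ⟨y, rfl⟩ := QuotientGroup.mk_surjective x
    have hy : y ∈ center Γ := P.ce.central hx
    rw [mem_center_iff]
    intro z
    obtain ⟨z, rfl⟩ := QuotientGroup.mk_surjective z
    rw [← QuotientGroup.mk_mul, ← QuotientGroup.mk_mul, mem_center_iff.1 hy z]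
  · exact perf_of_surj (QuotientGroup.mk' N) (QuotientGroup.mk'_surjective N) P.perf

theorem card_ker_quot (N : Subgroup Γ) [N.Normal] (hN : N ≤ σ.ker) :
    Nat.card σ.ker = Nat.card N * Nat.card (QuotientGroup.lift N σ hN).ker := by
  let f : σ.ker →* (QuotientGroup.lift N σ hN).ker :=
    ((QuotientGroup.mk' N).comp σ.ker.subtype).codRestrict _ (fun x => x.2)
  have hf : Function.Surjective f := by
    rintro ⟨x, hx⟩
    obtain ⟨y, rfl⟩ := QuotientGroup.mk_surjective x
    exact ⟨⟨y, hx⟩, rfl⟩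
  have hk : f.ker = N.subgroupOf σ.ker := by
    ext x
    rw [MonoidHom.mem_ker, mem_subgroupOf]
    constructor
    · intro h
      have : (QuotientGroup.mk (x : Γ) : Γ ⧸ N) = 1 := congrArg Subtype.val h
      exact (QuotientGroup.eq_one_iff _).1 this
    · intro h
      exact Subtype.ext ((QuotientGroup.eq_one_iff _).2 h)
  rw [card_eq_card_quotient_mul_card_subgroup f.ker, Nat.card_congr (QuotientGroup.quotientKerEquivOfSurjective f hf).toEquiv,
    hk, Nat.card_congr (subgroupOfEquivOfLe hN).toEquiv, mul_comm]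

/-- the perfect part of the preimage of a perfect subgroup -/
theorem PCE.restrict (C : CE σ) {H : Subgroup G} (hH : commutator H = ⊤) :
    ∃ (K : Subgroup Γ) (τ : K →* H), PCE τ ∧ (∀ x, ((τ x : H) : G) = σ x) ∧ Nat.card τ.ker = Nat.card ↥(K ⊓ σ.ker) := by
  set K₀ := H.comap σ with hK₀
  let p : K₀ →* H := (σ.comp K₀.subtype).codRestrict H (fun x => x.2)
  have Cp : CE p := by
    constructor
    · rintro ⟨h, hh⟩
      obtain ⟨x, rfl⟩ := C.surj h
      exact ⟨⟨x, hh⟩, rfl⟩
    · intro x hx
      have h1 : σ (x : Γ) = 1 := congrArg Subtype.val hx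
      rw [mem_center_iff]
      intro y
      exact Subtype.ext (mem_center_iff.1 (C.central h1) y)
  let K := (commutator ↥K₀).map K₀.subtype
  let e : ↥(commutator ↥K₀) ≃* K := (commutator ↥K₀).equivMapOfInjective K₀.subtype K₀.subtype_injective
  let τ : K →* H := (p.comp (commutator ↥K₀).subtype).comp e.symm.toMonoidHom
  have hτ : ∀ x, ((τ x : H) : G) = σ x := by
    intro x
    obtain ⟨y, rfl⟩ := e.surjective x
    show σ ((e.symm (e y) : ↥K₀) : Γ) = σ ((e y : K) : Γ)
    rw [e.symm_apply_apply]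
    rfl
  refine ⟨K, τ, ⟨⟨?_, ?_⟩, ?_⟩, hτ, ?_⟩
  · intro h
    have : h ∈ (commutator ↥K₀).map p := by rw [map_comm Cp hH]; exact mem_top _
    obtain ⟨x, hx, rfl⟩ := this
    refine ⟨e ⟨x, hx⟩, ?_⟩
    show p ((e.symm (e ⟨x, hx⟩) : ↥K₀)) = p x
    rw [e.symm_apply_apply]
  · intro x hx
    have h1 : σ (x : Γ) = 1 := by rw [← hτ]; exact congrArg Subtype.val hx
    rw [mem_center_iff]
    intro y
    exact Subtype.ext (mem_center_iff.1 (C.central h1) y)
  · exact perf_of_surj e.toMonoidHom e.surjective (perfect_comm Cp hH)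
  · have hle : ∀ x : K, x ∈ τ.ker ↔ (x : Γ) ∈ K ⊓ σ.ker := by
      intro x
      rw [MonoidHom.mem_ker, mem_inf, MonoidHom.mem_ker, ← hτ]
      constructor
      · intro h
        exact ⟨x.2, congrArg Subtype.val h⟩
      · intro h
        exact Subtype.ext h.2
    have : τ.ker.map K.subtype = K ⊓ σ.ker := by
      ext x
      rw [mem_map]
      constructor
      · rintro ⟨y, hy, rfl⟩
        exact (hle y).1 hy
      · intro h
        exact ⟨⟨x, h.1⟩, (hle _).2 h, rfl⟩
    rw [← this]
    exact Nat.card_congr (τ.ker.equivMapOfInjective K.subtype K.subtype_injective).toEquiv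

end

/-- the kernel of every finite perfect central extension of `G` has order dividing `n` -/
def MB (G : Type v) [Group G] (n : ℕ) : Prop :=
  ∀ (Γ : Type) [Group Γ] [Finite Γ] (σ : Γ →* G), PCE σ → Nat.card σ.ker ∣ n

/-- the kernel of every finite perfect central extension of `G` to which `H` lifts has order dividing `m` -/
def RB {G : Type v} [Group G] (H : Subgroup G) (m : ℕ) : Prop :=
  ∀ (Γ : Type) [Group Γ] [Finite Γ] (σ : Γ →* G), PCE σ → (∃ s : H →* Γ, ∀ h : H, σ (s h) = h) → Nat.card σ.ker ∣ m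

theorem MB.of_rel {G : Type v} [Group G] {H : Subgroup G} (hH : commutator H = ⊤) {n m : ℕ} (hn : MB H n) (hm : RB H m) :
    MB G (n * m) := by
  intro Γ _ _ σ P
  obtain ⟨K, τ, hτ, hσ, hc⟩ := PCE.restrict P.ce hH
  set N := K ⊓ σ.ker with hN
  have hNle : N ≤ σ.ker := inf_le_right
  have hNn : N.Normal := by
    constructor
    intro x hx g
    have h1 := CE.comm_mem P.ce (hNle hx) g
    have : g * x * g⁻¹ = x := by rw [← h1, mul_inv_cancel_right]
    rw [this]; exact hx
  have h1 := hn K τ hτ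
  rw [hc] at h1
  rw [card_ker_quot N hNle]
  refine Nat.mul_dvd_mul h1 (hm (Γ ⧸ N) _ (P.quot N hNle) ?_)
  let f : K →* Γ ⧸ N := (QuotientGroup.mk' N).comp K.subtype
  have hf : τ.ker ≤ f.ker := by
    intro x hx
    rw [MonoidHom.mem_ker] at hx ⊢
    refine (QuotientGroup.eq_one_iff _).2 ⟨x.2, ?_⟩
    show σ (x : Γ) = 1
    rw [← hσ, hx]
    rfl
  refine ⟨(QuotientGroup.lift τ.ker f hf).comp (QuotientGroup.quotientKerEquivOfSurjective τ hτ.ce.surj).symm.toMonoidHom, ?_⟩
  intro h
  obtain ⟨x, rfl⟩ := hτ.ce.surj h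
  have : (QuotientGroup.quotientKerEquivOfSurjective τ hτ.ce.surj).symm (τ x) = QuotientGroup.mk x := by
    rw [MulEquiv.symm_apply_eq]; rfl
  show QuotientGroup.lift N σ hNle (QuotientGroup.lift τ.ker f hf
    ((QuotientGroup.quotientKerEquivOfSurjective τ hτ.ce.surj).symm (τ x))) = _
  rw [this]
  show σ (x : Γ) = _
  rw [hσ]

theorem MB.mono {G : Type v} [Group G] {n m : ℕ} (h : MB G n) (hm : n ∣ m) : MB G m :=
  fun Γ _ _ σ P => (h Γ σ P).trans hm

theorem PCE.comp_equiv {Γ : Type u} {G : Type v} {G' : Type w} [Group Γ] [Group G] [Group G'] {σ : Γ →* G} (P : PCE σ)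
    (e : G ≃* G') : PCE (e.toMonoidHom.comp σ) where
  ce := ⟨e.surjective.comp P.ce.surj, by
    intro x hx
    refine P.ce.central ?_
    rw [MonoidHom.mem_ker, MonoidHom.comp_apply] at hx
    exact e.injective (hx.trans (map_one e).symm)⟩
  perf := P.perf

theorem ker_comp_equiv {Γ : Type u} {G : Type v} {G' : Type w} [Group Γ] [Group G] [Group G'] (σ : Γ →* G)
    (e : G ≃* G') : (e.toMonoidHom.comp σ).ker = σ.ker := by
  ext x
  rw [MonoidHom.mem_ker, MonoidHom.mem_ker, MonoidHom.comp_apply]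
  exact ⟨fun h => e.injective (h.trans (map_one e).symm), fun h => by rw [h]; exact map_one e⟩

theorem MB.equiv {G : Type v} {G' : Type w} [Group G] [Group G'] {n : ℕ} (h : MB G n) (e : G ≃* G') : MB G' n := by
  intro Γ _ _ σ P
  have := h Γ _ (P.comp_equiv e.symm)
  rwa [ker_comp_equiv] at this

/-- a group of cardinality prime to the kernel... : trivial bound for the trivial group -/
theorem MB.of_subsingleton {G : Type v} [Group G] [Subsingleton G] : MB G 1 := by
  intro Γ _ _ σ P
  have h1 : σ.ker = ⊤ := by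
    rw [eq_top_iff]; intro x _; exact Subsingleton.elim _ _
  have h2 : commutator Γ = ⊥ := by
    rw [commutator_def, commutator_eq_bot_iff_le_centralizer]
    intro x _ y _
    have : x ∈ σ.ker := by rw [h1]; exact mem_top _
    exact (CE.comm_mem P.ce this y).symm
  rw [P.perf] at h2
  rw [h1, Nat.dvd_one, Subgroup.card_top]
  have : Subsingleton Γ := by
    constructor
    intro a b
    have ha : a ∈ (⊤ : Subgroup Γ) := mem_top _
    have hb : b ∈ (⊤ : Subgroup Γ) := mem_top _
    rw [h2, mem_bot] at ha hb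
    rw [ha, hb]
  exact Nat.card_of_subsingleton (1 : Γ)

/-- stem extensions of perfect groups are perfect -/
theorem PCE.of_stem {Γ : Type u} {G : Type v} [Group Γ] [Group G] {σ : Γ →* G} (hG : commutator G = ⊤)
    (h : IsStemExtension σ) : PCE σ := by
  have C : CE σ := ⟨h.1, h.2.1⟩
  refine ⟨C, ?_⟩
  rw [eq_top_iff]
  intro x _
  have h1 : σ x ∈ (commutator Γ).map σ := by rw [map_comm C hG]; exact mem_top _
  obtain ⟨y, hy, hyx⟩ := h1
  have h2 : y⁻¹ * x ∈ σ.ker := by rw [MonoidHom.mem_ker, map_mul, map_inv, hyx, inv_mul_cancel]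
  have := (commutator Γ).mul_mem hy (h.2.2 h2)
  rwa [mul_inv_cancel_left] at this

theorem PCE.stem {Γ : Type u} {G : Type v} [Group Γ] [Group G] {σ : Γ →* G} (P : PCE σ) : IsStemExtension σ :=
  ⟨P.ce.surj, P.ce.central, by rw [P.perf]; exact le_top⟩

/-- a finite group in any universe is isomorphic to one in `Type` -/
theorem exists_small (Γ : Type u) [Group Γ] [Finite Γ] : ∃ (Γ' : Type) (_ : Group Γ') (_ : Finite Γ'), Nonempty (Γ' ≃* Γ) := by
  let e : Γ ≃ Fin (Nat.card Γ) := Finite.equivFin Γ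
  let i1 : Group (Fin (Nat.card Γ)) := e.symm.group
  exact ⟨Fin (Nat.card Γ), inferInstance, inferInstance, ⟨e.symm.mulEquiv⟩⟩

theorem MB.univ {G : Type v} [Group G] {n : ℕ} (h : MB G n) {Γ : Type u} [Group Γ] [Finite Γ] {σ : Γ →* G} (P : PCE σ) :
    Nat.card σ.ker ∣ n := by
  obtain ⟨Γ', i1, i2, ⟨e⟩⟩ := exists_small Γ
  have P' : PCE (σ.comp e.toMonoidHom) := by
    refine ⟨⟨P.ce.surj.comp e.surjective, ?_⟩, ?_⟩
    · intro x hx
      have h1 := mem_center_iff.1 (P.ce.central (show e x ∈ σ.ker from hx))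
      rw [mem_center_iff]
      intro y
      apply e.injective
      rw [map_mul, map_mul, h1]
    · exact perf_of_surj e.symm.toMonoidHom e.symm.surjective P.perf
  have h3 := h Γ' _ P'
  have h4 : (σ.comp e.toMonoidHom).ker.map e.toMonoidHom = σ.ker := by
    ext x
    rw [mem_map]
    constructor
    · rintro ⟨y, hy, rfl⟩
      exact hy
    · intro hx
      refine ⟨e.symm x, ?_, e.apply_symm_apply x⟩
      show σ (e (e.symm x)) = 1
      rw [e.apply_symm_apply]; exact hx
  rw [← h4]
  rwa [← Nat.card_congr ((σ.comp e.toMonoidHom).ker.equivMapOfInjective e.toMonoidHom e.injective).toEquiv]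

end Cfsg.Agent.MRel
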