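import Cfsg.Agent.MRel.Basic

set_option autoImplicit false

/-!
Commutators of lifts in central extensions: the pairing of an element with its centralizer, involution lifts,
Artin relations (owner: helper83).
-/

namespace Cfsg.Agent.MRel

open Subgroup Mult
open scoped commutatorElement

universe u v

section

variable {Γ : Type u} {G : Type v} [Group Γ] [Group G] {σ : Γ →* G} (C : CE σ)

/-- the pairing with `a` is a homomorphism on the centralizer of `a` -/
theorem cm_mul_of_comm {x y a : G} (_hx : x * a = a * x) (hy : y * a = a * y) : C.cm (x * y) a = C.cm x a * C.cm y a := by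
  have h1 : C.cm y a ∈ center Γ := C.cm_mem_center (by rw [commutatorElement_eq_one_iff_mul_comm, hy])
  rw [C.cm_mul_left, C.cj_center _ h1, mem_center_iff.1 h1]

/-- the pairing with `a` -/
noncomputable def chi (a : G) : ↥(centralizer ({a} : Set G)) →* ↥(center Γ) :=
  MonoidHom.mk' (fun x => ⟨C.cm x a, C.cm_mem_center (by
    rw [commutatorElement_eq_one_iff_mul_comm]
    exact (mem_centralizer_iff.1 x.2 a rfl).symm)⟩) (by
    intro x y
    apply Subtype.ext
    exact cm_mul_of_comm C (mem_centralizer_iff.1 x.2 a rfl).symm (mem_centralizer_iff.1 y.2 a rfl).symm)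

theorem chi_eq_one {a : G} {x : G} (hx : x ∈ centralizer ({a} : Set G)) (h : chi C a ⟨x, hx⟩ = 1) : C.Tr x a :=
  congrArg Subtype.val h

theorem mem_cen {a x : G} (h : x * a = a * x) : x ∈ centralizer ({a} : Set G) := by
  rw [mem_centralizer_iff]
  rintro y rfl
  exact h.symm

/-- the square of a commutator of lifts -/
theorem cm_sq_eq {x z : G} (h : C.Tr x ⁅x, z⁆) : C.cm x z * C.cm x z = C.cm (x * x) z := by
  rw [C.cm_mul_left, h.fix (C.σ_cm x z)]

/-- the commutator of lifts of commuting elements, one of them an involution -/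
theorem cm_inv_sq {x z : G} (hx : x * x = 1) (h : x * z = z * x) : C.cm x z * C.cm x z = 1 := by
  rw [← cm_mul_of_comm C h h, hx, C.cm_one_left]

theorem cj_sq {g : G} {x : Γ} (h : x * x = 1) : C.cj g x * C.cj g x = 1 := by
  rw [← map_mul, h, map_one]

/-- Artin relation of length three -/
theorem art3 {x : Γ} {g y : G} (hx : σ x = g) (h : (g * y) * g * (g * y)⁻¹ = y) :
    C.cj (g * y) x * x * C.cj (g * y) x = x * C.cj (g * y) x * x ∧ σ (C.cj (g * y) x) = y := by
  have h1 : σ (C.cj (g * y) x) = y := by rw [C.σ_cj, hx, h]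
  refine ⟨?_, h1⟩
  have h2 := C.cj_apply (a := x * C.cj (g * y) x) (g := g * y) (by rw [map_mul, h1, hx]) x
  rw [eq_mul_inv_iff_mul_eq] at h2
  rw [mul_assoc, h2]

theorem art3_inv {x : Γ} {g y : G} (hx : σ x = g) (h : (g * y) * g * (g * y)⁻¹ = y) (h2 : x * x = 1) :
    (x * C.cj (g * y) x) ^ 3 = 1 := by
  obtain ⟨h1, -⟩ := art3 C hx h
  have h3 := cj_sq C (g := g * y) h2
  calc (x * C.cj (g * y) x) ^ 3 = (x * C.cj (g * y) x * x) * (C.cj (g * y) x * x * C.cj (g * y) x) := by
        simp only [pow_succ, pow_zero, one_mul, mul_assoc]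
    _ = (C.cj (g * y) x * x * C.cj (g * y) x) * (C.cj (g * y) x * x * C.cj (g * y) x) := by rw [h1]
    _ = C.cj (g * y) x * x * (C.cj (g * y) x * C.cj (g * y) x) * x * C.cj (g * y) x := by group
    _ = 1 := by rw [h3, mul_one, mul_assoc (C.cj (g * y) x) x x, h2, mul_one, h3]

/-- Artin relation of length five -/
theorem art5 {x : Γ} {g y : G} (hx : σ x = g) (h : (g * y) ^ 2 * g * ((g * y) ^ 2)⁻¹ = y) (h2 : x * x = 1) :
    (x * C.cj ((g * y) ^ 2) x) ^ 5 = 1 ∧ σ (C.cj ((g * y) ^ 2) x) = y := by
  have h1 : σ (C.cj ((g * y) ^ 2) x) = y := by rw [C.σ_cj, hx, h]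
  refine ⟨?_, h1⟩
  have h3 := C.cj_apply (a := (x * C.cj ((g * y) ^ 2) x) ^ 2) (g := (g * y) ^ 2) (by rw [map_pow, map_mul, h1, hx]) x
  have h4 := cj_sq C (g := (g * y) ^ 2) h2
  rw [eq_mul_inv_iff_mul_eq] at h3
  set b := C.cj ((g * y) ^ 2) x with hb
  have e1 : x * b * x * b * x = b * x * b * x * b := by
    have : b * (x * b * (x * b)) = x * b * (x * b) * x := by rw [← pow_two]; exact h3
    calc x * b * x * b * x = x * b * (x * b) * x := by group
      _ = b * (x * b * (x * b)) := this.symm
      _ = _ := by group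
  calc (x * b) ^ 5 = (x * b * x * b * x) * (b * x * b * x * b) := by
        simp only [pow_succ, pow_zero, one_mul, mul_assoc]
    _ = (x * b * x * b * x) * (x * b * x * b * x) := by rw [e1]
    _ = x * b * x * b * (x * x) * b * x * b * x := by group
    _ = x * b * x * (b * b) * x * b * x := by rw [h2]; group
    _ = x * b * (x * x) * b * x := by rw [h4]; group
    _ = x * (b * b) * x := by rw [h2]; group
    _ = 1 := by rw [h4, mul_one, h2]

include C in
/-- central elements -/
theorem cen_of_one {z : Γ} (h : σ z = 1) (x : Γ) : z * x = x * z := (mem_center_iff.1 (C.central h) x).symm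

end

/-- two lifts of a homomorphism from a perfect group are equal -/
theorem lift_unique {A Γ G : Type*} [Group A] [Group Γ] [Group G] {σ : Γ →* G} (C : CE σ) (hA : commutator A = ⊤)
    {f g : A →* Γ} (h : ∀ a, σ (f a) = σ (g a)) : f = g :=
  hom_ext_perfect hA C.central (MonoidHom.ext h)

end Cfsg.Agent.MRel
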