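import Cfsg.Agent.MRel.StabH

/-! Certificate for the p-part of a Schur multiplier (generated; owner: helper83). -/

set_option autoImplicit false
set_option maxRecDepth 100000

namespace Cfsg.Agent.MRel.HNC3

open Cfsg.Agent.MRel.Stab Cfsg.Agent.MulX.Coh

/-- rules -/
def rules : List (List ℕ × List ℕ) := [([0, 0, 0], [5, 5]),
  ([1, 0], [0, 1, 4, 4]),
  ([2, 0], [0, 2, 3, 5]),
  ([3, 0], [0, 3, 5, 5]),
  ([4, 0], [0, 4]),
  ([5, 0], [0, 5]),
  ([1, 1, 1], []),
  ([2, 1], [1, 2, 4]),
  ([3, 1], [1, 3]),
  ([4, 1], [1, 4, 5]),
  ([5, 1], [1, 5]),
  ([2, 2, 2], []),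
  ([3, 2], [2, 3]),
  ([4, 2], [2, 4]),
  ([5, 2], [2, 5]),
  ([3, 3, 3], []),
  ([4, 3], [3, 4]),
  ([5, 3], [3, 5]),
  ([4, 4, 4], []),
  ([5, 4], [4, 5]),
  ([5, 5, 5], []),
  ([6, 0], [0, 0, 3, 4, 4, 6]),
  ([6, 1], [1, 1, 6]),
  ([6, 2], [2, 2, 4, 4, 6]),
  ([6, 3], [3, 6]),
  ([6, 4], [4, 6]),
  ([6, 5], [5, 5, 6]),
  ([7], [0, 2, 2]),
  ([8, 7], [1, 4, 8]),
  ([8, 1], [0, 0, 1, 1, 2, 3, 4, 5, 8]),
  ([8, 3], [0, 2, 2, 4, 4, 5, 5, 8]),
  ([8, 4], [1, 3, 4, 5, 5, 8]),
  ([8, 5], [5, 8])]

/-- paths -/
def paths0 : List (List ℕ × List Step) := [([0, 0, 0, 0], [(0, 0, false), (1, 5, false), (0, 5, false), (1, 0, true)]),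
  ([6, 1, 1, 1], [(1, 6, false), (0, 6, true), (1, 22, true), (0, 6, true), (2, 22, true), (0, 22, true)]),
  ([6, 5, 5, 5], [(1, 20, false), (0, 20, true), (1, 26, true), (0, 20, true), (2, 26, true), (0, 26, true)]),
  ([3, 2, 1], [(0, 12, false), (1, 8, false), (0, 7, false), (2, 16, false), (1, 12, true), (0, 8, true), (1, 7, true)]),
  ([4, 0, 0, 0], [(0, 4, false), (1, 4, false), (2, 4, false), (0, 0, false), (1, 19, false), (0, 19, false), (1, 0, true)]),
  ([4, 3, 1], [(0, 16, false), (1, 9, false), (0, 8, false), (1, 16, true), (2, 17, true), (0, 9, true), (1, 8, true)]),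
  ([6, 3, 1], [(1, 8, false), (0, 22, false), (2, 24, false), (1, 8, true), (0, 8, true), (1, 22, true), (0, 24, true)]),
  ([6, 4, 2], [(1, 13, false), (0, 23, false), (4, 25, false), (1, 13, true), (0, 13, true), (1, 23, true), (0, 25, true)]),
  ([4, 2, 1], [(0, 13, false), (1, 9, false), (0, 7, false), (3, 19, true), (1, 13, true), (2, 14, true), (0, 9, true), (1, 7, true)]),
  ([6, 4, 0], [(1, 4, false), (0, 21, false), (5, 25, false), (2, 16, true), (1, 4, true), (0, 4, true), (1, 21, true), (0, 25, true)]),
  ([8, 5, 4], [(1, 19, false), (0, 31, false), (5, 32, false), (2, 19, true), (1, 17, true), (0, 10, true), (1, 31, true), (0, 32, true)]),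
  ([2, 2, 2, 1], [(0, 11, false), (1, 18, true), (1, 11, true), (3, 13, true), (4, 13, true), (2, 13, true), (0, 7, true), (1, 7, true), (2, 7, true)]),
  ([6, 4, 1], [(1, 9, false), (0, 22, false), (2, 25, false), (3, 26, false), (1, 9, true), (2, 10, true), (0, 9, true), (1, 22, true), (0, 25, true)]),
  ([6, 3, 2], [(1, 12, false), (0, 23, false), (4, 24, false), (3, 16, false), (2, 16, false), (1, 12, true), (0, 12, true), (1, 23, true), (0, 24, true)]),
  ([6, 2, 2, 2], [(1, 11, false), (0, 18, true), (0, 11, true), (2, 13, true), (1, 13, true), (2, 23, true), (1, 18, true), (0, 13, true), (1, 13, true), (0, 11, true), (2, 13, true), (3, 13, true), (4, 23, true), (0, 23, true)]),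
  ([2, 2, 2, 0], [(0, 11, false), (1, 20, true), (1, 15, true), (3, 17, true), (4, 17, true), (1, 11, true), (3, 12, true), (4, 12, true), (5, 14, true), (6, 14, true), (4, 17, true), (2, 12, true), (3, 14, true), (0, 2, true), (1, 2, true), (2, 2, true)]),
  ([6, 3, 0], [(1, 3, false), (0, 21, false), (5, 24, false), (4, 16, false), (3, 16, false), (6, 26, false), (8, 26, false), (6, 20, false), (5, 19, true), (4, 19, true), (3, 17, true), (3, 20, true), (1, 3, true), (2, 5, true), (3, 5, true), (0, 3, true), (1, 21, true), (0, 24, true)]),
  ([6, 2, 1], [(1, 7, false), (0, 22, false), (2, 23, false), (6, 25, false), (4, 18, false), (4, 20, true), (4, 18, true), (3, 13, true), (1, 7, true), (2, 7, true), (3, 9, true), (4, 10, true), (5, 10, true), (3, 19, true), (3, 18, true), (2, 13, true), (0, 7, true), (1, 7, true), (2, 9, true), (3, 9, true), (4, 22, true), (0, 23, true)]),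
  ([8, 3, 7], [(2, 27, false), (1, 3, false), (4, 14, false), (3, 14, false), (2, 12, false), (5, 14, false), (4, 14, false), (3, 12, false), (1, 27, true), (0, 28, false), (2, 30, false), (1, 4, false), (0, 1, false), (2, 18, false), (8, 32, false), (6, 20, false), (6, 32, false), (5, 19, true), (5, 20, true), (4, 19, true), (4, 18, true), (3, 13, true), (1, 7, true), (2, 7, true), (3, 9, true), (4, 9, true), (5, 10, true), (6, 10, true), (7, 28, true), (0, 30, true)]),
  ([8, 4, 3], [(1, 16, false), (0, 30, false), (7, 31, false), (6, 10, false), (5, 10, false), (4, 9, false), (3, 9, false), (2, 7, false), (1, 7, false), (3, 13, false), (4, 18, false), (4, 19, false), (5, 20, false), (5, 17, false), (4, 16, false), (5, 19, true), (3, 12, true), (4, 14, true), (2, 12, true), (3, 14, true), (3, 20, true), (3, 18, true), (5, 19, true), (6, 19, true), (2, 16, true), (3, 16, true), (0, 1, true), (1, 3, true), (2, 4, true), (3, 5, true), (4, 5, true), (5, 30, true), (0, 31, true)]),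
  ([8, 7, 7, 7], [(1, 27, false), (4, 27, false), (3, 2, false), (2, 2, false), (5, 14, false), (4, 12, false), (6, 17, false), (8, 14, false), (7, 14, false), (6, 12, false), (5, 12, false), (3, 11, false), (6, 14, false), (5, 14, false), (4, 12, false), (3, 12, false), (8, 27, false), (7, 5, false), (6, 5, false), (5, 3, false), (4, 3, false), (3, 2, false), (1, 0, false), (2, 14, false), (1, 14, false), (3, 17, false), (2, 17, false), (3, 20, false), (5, 17, false), (4, 17, false), (2, 15, false), (2, 20, false), (2, 20, false), (1, 11, false), (0, 18, true), (2, 20, true), (1, 19, true), (0, 6, true), (2, 9, true), (3, 9, true), (4, 10, true), (5, 28, true), (3, 19, true), (1, 9, true), (2, 28, true), (0, 28, true)]),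
  ([6, 2, 0], [(1, 2, false), (0, 21, false), (5, 23, false), (4, 13, false), (3, 13, false), (2, 12, false), (5, 13, false), (4, 13, false), (3, 12, false), (5, 18, false), (6, 24, false), (5, 16, false), (7, 26, false), (6, 19, true), (7, 19, true), (6, 18, true), (8, 19, true), (9, 19, true), (5, 16, true), (6, 16, true), (7, 17, true), (8, 17, true), (5, 20, true), (4, 17, true), (4, 20, true), (4, 15, true), (6, 17, true), (7, 17, true), (5, 17, true), (3, 12, true), (4, 14, true), (1, 2, true), (2, 2, true), (3, 3, true), (4, 3, true), (5, 4, true), (6, 4, true), (7, 5, true), (8, 5, true), (6, 19, true), (7, 19, true), (5, 19, true), (6, 19, true), (4, 17, true), (2, 12, true), (3, 14, true), (0, 2, true), (1, 2, true), (2, 4, true), (3, 4, true), (4, 21, true), (0, 23, true)])]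

/-- rows -/
def rows0 : List ℕ := [0x4000000000000000000003,
  0x18000000000000000000000000000000000000000000000000000000000000000000140000000000000000000000000,
  0x1800000000000000000000000050000000000000000000000000000000000000000000000000000000000000000000000000000000000000,
  0x100000000000000003000000000000000030001800000000000000000000000000000,
  0x1000000000000000000000000000000000000000000000000000000000000000300000000000000003,
  0x4000300000000000000000000000000000600030000000000000000000000000000000000,
  0x300000000c000000000000000000000000000000000000000000000000000000000050000000000000000000000000000000000,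
  0x600000001800000000000000000000000000000000000000000a0000000000000000000000000000000000000000000000000000000,
  0x1000000000000000000000800060000000000000000600000001800000000000000000000000000000,
  0x60000000000000000600000000000000000000200000000000000000000000000000000000000000000000000500000000000000000,
  0x30001800000000000000000000000000000000000000000000000001800000004000000000000000000000000000008000000000000000000000000000000000000000000,
  0x800000000000000000000c0000000180000000000000003000000000000000000000000000000,
  0x40006000000000000c000000000000000000000000000000000000000000000000008000a00000000000000000000000000000000000000,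
  0x3000180000000000000000000000000000200000000000000005000000000000000000000000000000000000000000000000000,
  0x300000000000000000000100000000000000000000180000000280000000000000000000000000000000000000000000000,
  0x2000000000000c000000010001800000006000180000000000000000000000000000000000001800000000,
  0x800000003000000000000600030002000000004000200000000000000000000000000000000000000000000008000000028000000000000,
  0x2000000018000c000000020001000140000000000000000000080000000000010000c00000004800000000000000000000000000000,
  0x200000000c00000003000180000000000000000000000000000300020000c0000000000000001000040002000000010000800000002000000000000100008000000020000,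
  0x18000c00000000000000000000000000000000000000000300038000c0002000600000001000020004000000008000400000001000000008000200010000000040000,
  0x60001800000000000000000000000000005000200008000a000000008001c00000005000100008000c00000000000080004000000010000c00000001,
  0x4000000010001800000006000400080000c001c000500010001000080006000000000000000000000000000008000800020002400000000]

/-- rows -/
def rows : List ℕ := rows0

/-- the certificate -/
def D : Cert where
  b := 17
  m := 3
  n := 33
  ns := 21
  rules := rules
  M := 156
  rows := rows
  gauge := [0x8000000000000000000000000000000000000000000000000000000000000000000000000000000000000000000000000000000000000000000,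
    0,
    0,
    0x400000001,
    0x40000,
    2,
    0,
    0,
    0]
  prm := []
  ords := []
  certs := [(0, 0),
    (0, 0),
    (0, 0),
    (0x200002110210200001211, 0),
    (0x2000002000, 0),
    (2, 0),
    (0x20, 0),
    (0x20010021001220111000, 0),
    (0x2000000, 0),
    (0x100021222100100021121, 0),
    (0x20000100000, 0),
    (0x200200000000000, 0),
    (0x20000000002000, 0),
    (0x20000000, 0),
    (0x200010000, 0),
    (0x2000000000000100, 0),
    (0x1000, 0),
    (0x200000, 0),
    (0x200000000000, 0),
    (0x20000, 0),
    (0x200, 0)]
  ocerts := []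

theorem path0 : Rows D.b D.m D.n D.M D.rules rows0 := rowsB_spec (ps := paths0) (by decide +kernel)

theorem tgt_ok : (List.range D.ns).all D.tgtB = true := by decide +kernel

theorem good : D.Good where
  m1 := by decide
  nsn := by decide +kernel
  rows := path0
  gau := by decide +kernel
  prm := by decide +kernel
  bnd := by decide +kernel
  tgt := fun r hr => (List.all_eq_true.1 tgt_ok) r (List.mem_range.2 hr)
  ord := fun j hj => absurd hj (Nat.not_lt_zero j)

theorem pc_ok : pcB 3 6 D.ns D.rules = true := by decide +kernel

end Cfsg.Agent.MRel.HNC3
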