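import Cfsg.Agent.MRel.StabH

/-! Certificate for the p-part of a Schur multiplier (generated; owner: helper83). -/

set_option autoImplicit false
set_option maxRecDepth 100000

namespace Cfsg.Agent.MRel.HNC5

open Cfsg.Agent.MRel.Stab Cfsg.Agent.MulX.Coh

/-- rules -/
def rules : List (List ℕ × List ℕ) := [([0, 0, 0, 0, 0], [5, 5, 5]),
  ([1, 0], [0, 1, 2, 3, 3, 3, 3, 4, 5, 5]),
  ([2, 0], [0, 2, 3, 3, 3, 4, 4, 5, 5, 5]),
  ([3, 0], [0, 3, 4, 4, 4, 5, 5]),
  ([4, 0], [0, 4, 5, 5, 5]),
  ([5, 0], [0, 5]),
  ([1, 1, 1, 1, 1], []),
  ([2, 1], [1, 2]),
  ([3, 1], [1, 3]),
  ([4, 1], [1, 4, 5]),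
  ([5, 1], [1, 5]),
  ([2, 2, 2, 2, 2], []),
  ([3, 2], [2, 3, 5, 5]),
  ([4, 2], [2, 4]),
  ([5, 2], [2, 5]),
  ([3, 3, 3, 3, 3], []),
  ([4, 3], [3, 4]),
  ([5, 3], [3, 5]),
  ([4, 4, 4, 4, 4], []),
  ([5, 4], [4, 5]),
  ([5, 5, 5, 5, 5], []),
  ([6, 1], [1, 1, 1, 1, 6]),
  ([6, 2], [1, 1, 2, 6]),
  ([6, 3], [1, 1, 1, 3, 6]),
  ([6, 4], [2, 3, 4, 4, 4, 4, 6]),
  ([6, 5], [5, 6]),
  ([7], [0, 1, 1]),
  ([8, 7], [0, 1, 1, 4, 5, 8]),
  ([8, 2], [0, 0, 1, 1, 1, 1, 2, 2, 2, 3, 3, 4, 5, 5, 8]),
  ([8, 3], [3, 4, 4, 4, 4, 5, 5, 5, 5, 8]),
  ([8, 4], [4, 4, 4, 5, 5, 8]),
  ([8, 5], [4, 4, 4, 5, 5, 5, 5, 8])]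

/-- paths -/
def paths0 : List (List ℕ × List Step) := [([0, 0, 0, 0, 0, 0], [(0, 0, false), (2, 5, false), (1, 5, false), (0, 5, false), (1, 0, true)]),
  ([4, 2, 1], [(0, 13, false), (1, 9, false), (0, 7, false), (1, 13, true), (2, 14, true), (0, 9, true), (1, 7, true)]),
  ([4, 3, 1], [(0, 16, false), (1, 9, false), (0, 8, false), (1, 16, true), (2, 17, true), (0, 9, true), (1, 8, true)]),
  ([3, 2, 1], [(0, 12, false), (3, 10, false), (2, 10, false), (1, 8, false), (0, 7, false), (1, 12, true), (0, 8, true), (1, 7, true)]),
  ([4, 3, 2], [(0, 16, false), (1, 13, false), (0, 12, false), (3, 19, false), (2, 19, false), (1, 16, true), (0, 13, true), (1, 12, true)]),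
  ([6, 1, 1, 1, 1, 1], [(1, 6, false), (0, 6, true), (1, 21, true), (0, 6, true), (2, 21, true), (0, 6, true), (3, 21, true), (0, 6, true), (4, 21, true), (0, 21, true)]),
  ([6, 2, 1], [(1, 7, false), (0, 21, false), (4, 22, false), (0, 6, false), (0, 7, true), (0, 6, true), (4, 7, true), (3, 7, true), (2, 7, true), (3, 21, true), (0, 22, true)]),
  ([6, 3, 1], [(1, 8, false), (0, 21, false), (4, 23, false), (0, 6, false), (1, 8, true), (0, 8, true), (0, 6, true), (4, 8, true), (3, 8, true), (4, 21, true), (0, 23, true)]),
  ([6, 3, 2], [(1, 12, false), (0, 22, false), (3, 23, false), (2, 7, false), (3, 7, false), (4, 7, false), (0, 6, false), (2, 25, false), (3, 25, false), (0, 12, true), (0, 6, true), (4, 8, true), (3, 8, true), (4, 22, true), (0, 23, true)]),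
  ([8, 5, 3], [(1, 17, false), (0, 29, false), (9, 31, false), (4, 19, true), (5, 19, true), (6, 19, true), (7, 19, true), (0, 16, true), (1, 16, true), (2, 16, true), (3, 17, true), (4, 17, true), (5, 17, true), (6, 17, true), (7, 29, true), (0, 31, true)]),
  ([4, 4, 4, 4, 4, 1], [(0, 18, false), (1, 20, true), (1, 18, true), (5, 19, true), (6, 19, true), (7, 19, true), (8, 19, true), (4, 19, true), (5, 19, true), (6, 19, true), (3, 19, true), (4, 19, true), (2, 19, true), (0, 9, true), (1, 9, true), (2, 9, true), (3, 9, true), (4, 9, true)]),
  ([4, 1, 0], [(0, 9, false), (2, 5, false), (1, 4, false), (0, 1, false), (10, 19, true), (11, 19, true), (6, 16, true), (7, 17, true), (8, 17, true), (9, 17, true), (10, 17, true), (5, 16, true), (6, 17, true), (7, 17, true), (8, 17, true), (9, 17, true), (4, 16, true), (5, 17, true), (6, 17, true), (7, 17, true), (8, 17, true), (3, 16, true), (4, 17, true), (5, 17, true), (6, 17, true), (7, 17, true), (2, 13, true), (3, 14, true), (4, 14, true), (5, 14, true), (6, 14, true), (1, 9, true), (2, 10, true), (3, 10, true), (4, 10, true), (0, 4, true), (1, 1, true)]),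
  ([8, 4, 4, 4, 4, 4], [(1, 18, false), (0, 20, true), (0, 18, true), (4, 19, true), (5, 19, true), (6, 19, true), (3, 19, true), (4, 19, true), (5, 19, true), (2, 19, true), (3, 19, true), (4, 19, true), (5, 30, true), (1, 19, true), (0, 19, true), (0, 18, true), (4, 19, true), (5, 30, true), (4, 20, true), (3, 19, true), (4, 19, true), (5, 19, true), (6, 19, true), (2, 19, true), (3, 19, true), (4, 19, true), (5, 19, true), (1, 19, true), (2, 19, true), (3, 19, true), (4, 19, true), (5, 30, true), (0, 19, true), (1, 19, true), (0, 18, true), (4, 19, true), (5, 19, true), (3, 19, true), (4, 19, true), (5, 30, true), (0, 30, true)]),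
  ([8, 5, 7], [(2, 26, false), (1, 5, false), (2, 10, false), (3, 10, false), (1, 26, true), (0, 27, false), (5, 31, false), (4, 19, false), (5, 19, false), (7, 19, true), (8, 19, true), (9, 19, true), (5, 19, true), (6, 19, true), (4, 19, true), (2, 9, true), (3, 9, true), (4, 9, true), (5, 10, true), (5, 20, true), (4, 19, true), (5, 19, true), (3, 19, true), (1, 9, true), (2, 9, true), (3, 9, true), (4, 10, true), (5, 10, true), (6, 10, true), (4, 20, true), (3, 19, true), (3, 20, true), (2, 19, true), (3, 19, true), (4, 19, true), (0, 4, true), (1, 4, true), (2, 4, true), (3, 5, true), (4, 5, true), (5, 5, true), (6, 5, true), (7, 27, true), (0, 31, true)]),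
  ([6, 4, 2], [(1, 13, false), (0, 22, false), (3, 24, false), (9, 20, true), (8, 19, true), (9, 19, true), (7, 19, true), (8, 19, true), (6, 19, true), (7, 19, true), (5, 19, true), (6, 19, true), (3, 12, true), (4, 13, true), (5, 13, true), (6, 13, true), (7, 13, true), (8, 14, true), (9, 14, true), (10, 14, true), (8, 20, true), (7, 19, true), (8, 19, true), (9, 19, true), (6, 19, true), (7, 19, true), (5, 19, true), (1, 7, true), (2, 8, true), (3, 9, true), (4, 9, true), (5, 9, true), (6, 9, true), (7, 10, true), (8, 10, true), (9, 10, true), (10, 10, true), (6, 19, true), (7, 19, true), (8, 19, true), (5, 19, true), (6, 19, true), (4, 19, true), (0, 7, true), (1, 8, true), (2, 9, true), (3, 9, true), (4, 9, true), (5, 9, true), (6, 22, true), (0, 24, true)]),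
  ([8, 3, 2], [(1, 12, false), (0, 28, false), (14, 29, false), (13, 17, false), (12, 17, false), (11, 16, false), (14, 19, false), (13, 19, false), (15, 19, false), (14, 19, false), (16, 19, false), (15, 19, false), (17, 19, false), (16, 19, false), (12, 18, false), (12, 20, false), (13, 31, false), (12, 19, false), (13, 19, false), (14, 19, false), (15, 20, false), (15, 31, false), (12, 18, false), (12, 19, true), (13, 19, true), (11, 17, true), (12, 17, true), (10, 17, true), (11, 17, true), (8, 12, true), (9, 20, true), (7, 12, true), (8, 14, true), (9, 14, true), (10, 14, true), (6, 12, true), (7, 14, true), (5, 8, true), (6, 10, true), (4, 8, true), (5, 10, true), (3, 8, true), (4, 10, true), (2, 8, true), (3, 10, true), (3, 20, true), (3, 18, true), (7, 20, true), (6, 19, true), (7, 19, true), (1, 3, true), (2, 4, true), (3, 4, true), (4, 5, true), (5, 5, true), (6, 5, true), (4, 20, true), (3, 19, true), (3, 20, true), (2, 19, true), (3, 19, true), (4, 19, true), (2, 18, true), (6, 20, true), (5, 19, true), (6, 19, true), (0, 3, true), (1, 4, true), (2, 4, true), (3, 4, true), (4, 4, true), (5, 5, true), (6, 5, true), (7, 5, true), (8,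 5, true), (9, 28, true), (0, 29, true)]),
  ([8, 3, 7], [(2, 26, false), (1, 3, false), (7, 10, false), (6, 10, false), (5, 9, false), (4, 9, false), (3, 9, false), (2, 8, false), (5, 19, false), (7, 19, false), (6, 19, false), (7, 20, false), (6, 9, false), (5, 9, false), (4, 9, false), (3, 8, false), (6, 19, false), (8, 19, false), (7, 19, false), (1, 26, true), (0, 27, false), (5, 29, false), (4, 17, false), (3, 16, false), (5, 19, false), (6, 19, false), (7, 19, false), (8, 19, false), (4, 18, false), (4, 20, false), (4, 30, false), (9, 30, false), (8, 19, false), (7, 19, false), (9, 19, false), (8, 19, false), (4, 18, false), (5, 19, false), (4, 19, false), (9, 30, false), (8, 19, false), (7, 19, false), (6, 19, false), (5, 19, false), (9, 19, false), (8, 19, false), (7, 19, false), (6, 19, false), (10, 19, false), (9, 19, false), (8, 19, false), (7, 19, false), (8, 20, false), (9, 31, false), (8, 19, false), (4, 18, false), (4, 19, false), (5, 19, false), (6, 20, false), (6, 31, false), (4, 18, false), (8, 31, false), (7, 19, false), (6, 19, false), (5, 19, false), (4, 19, false), (8, 19, false), (7, 19, false), (6, 19, false), (5, 19, false),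 (9, 19, false), (8, 19, false), (7, 19, false), (6, 19, false), (7, 20, false), (6, 19, true), (7, 19, true), (5, 19, true), (2, 8, true), (3, 9, true), (4, 9, true), (5, 20, true), (4, 19, true), (1, 8, true), (2, 9, true), (3, 9, true), (4, 10, true), (5, 10, true), (6, 10, true), (4, 20, true), (3, 19, true), (3, 20, true), (2, 19, true), (3, 19, true), (4, 19, true), (2, 18, true), (6, 20, true), (5, 19, true), (6, 19, true), (0, 3, true), (1, 4, true), (2, 4, true), (3, 4, true), (4, 4, true), (5, 5, true), (6, 5, true), (7, 5, true), (8, 5, true), (9, 27, true), (0, 29, true)]),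
  ([6, 4, 4, 4, 4, 4], [(1, 18, false), (0, 18, true), (0, 15, true), (4, 16, true), (5, 20, true), (4, 19, true), (5, 19, true), (6, 19, true), (3, 17, true), (3, 20, true), (2, 17, true), (3, 17, true), (4, 17, true), (5, 17, true), (1, 17, true), (2, 17, true), (0, 11, true), (4, 12, true), (5, 12, true), (6, 12, true), (7, 12, true), (8, 13, true), (9, 14, true), (10, 14, true), (11, 24, true), (8, 19, true), (9, 19, true), (8, 18, true), (12, 19, true), (13, 19, true), (11, 19, true), (12, 19, true), (10, 19, true), (11, 19, true), (7, 16, true), (8, 16, true), (9, 17, true), (10, 17, true), (8, 19, true), (7, 19, true), (7, 20, true), (6, 17, true), (7, 17, true), (8, 17, true), (9, 17, true), (5, 17, true), (6, 17, true), (3, 12, true), (4, 12, true), (5, 12, true), (6, 13, true), (7, 13, true), (8, 14, true), (9, 24, true), (7, 19, true), (6, 19, true), (6, 18, true), (10, 19, true), (9, 19, true), (5, 16, true), (6, 16, true), (7, 16, true), (8, 17, true), (8, 20, true), (7, 19, true), (8, 19, true), (9, 19, true), (10, 19, true), (6, 19, true), (7, 19, true), (8, 19, true), (9, 19, true), (5, 19, true), (6, 19, true), (7, 19, true),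 (8, 19, true), (4, 17, true), (5, 17, true), (2, 12, true), (3, 12, true), (4, 13, true), (5, 13, true), (6, 13, true), (7, 14, true), (8, 14, true), (9, 24, true), (6, 19, true), (7, 19, true), (5, 19, true), (6, 19, true), (4, 19, true), (5, 19, true), (4, 18, true), (8, 19, true), (9, 19, true), (3, 16, true), (4, 16, true), (5, 16, true), (6, 16, true), (7, 17, true), (8, 17, true), (6, 19, true), (7, 19, true), (5, 19, true), (6, 19, true), (4, 19, true), (5, 19, true), (3, 19, true), (4, 19, true), (1, 12, true), (2, 13, true), (3, 13, true), (4, 13, true), (5, 13, true), (6, 24, true), (0, 24, true)]),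
  ([2, 2, 2, 2, 2, 0], [(0, 11, false), (1, 20, true), (1, 18, true), (5, 19, true), (6, 19, true), (4, 19, true), (5, 19, true), (1, 15, true), (5, 16, true), (6, 16, true), (7, 16, true), (8, 17, true), (9, 17, true), (4, 16, true), (5, 16, true), (6, 16, true), (7, 17, true), (8, 17, true), (3, 16, true), (4, 16, true), (5, 16, true), (6, 17, true), (7, 17, true), (6, 20, true), (5, 19, true), (6, 19, true), (7, 19, true), (8, 19, true), (4, 19, true), (5, 19, true), (6, 19, true), (7, 19, true), (3, 19, true), (4, 19, true), (5, 19, true), (6, 19, true), (2, 17, true), (3, 17, true), (1, 11, true), (5, 12, true), (6, 12, true), (7, 13, true), (8, 13, true), (9, 13, true), (10, 14, true), (11, 14, true), (12, 14, true), (6, 16, true), (5, 16, true), (5, 15, true), (9, 16, true), (10, 20, true), (9, 19, true), (10, 19, true), (11, 19, true), (8, 17, true), (8, 20, true), (7, 17, true), (8, 17, true), (9, 17, true), (10, 17, true), (6, 17, true), (7, 17, true), (4, 12, true), (5, 12, true), (6, 12, true), (7, 12, true), (8, 13, true), (9, 14, true), (10, 14, true), (9, 20, true), (8, 19, true), (9, 19, true), (10, 19, true), (11, 19, true), (8,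 18, true), (12, 19, true), (13, 19, true), (14, 19, true), (15, 19, true), (7, 16, true), (8, 16, true), (9, 16, true), (10, 16, true), (11, 17, true), (12, 17, true), (13, 17, true), (14, 17, true), (6, 16, true), (7, 16, true), (8, 16, true), (9, 16, true), (10, 17, true), (11, 17, true), (12, 17, true), (13, 17, true), (5, 16, true), (6, 16, true), (7, 16, true), (8, 16, true), (9, 17, true), (10, 17, true), (11, 17, true), (12, 17, true), (8, 19, true), (9, 19, true), (7, 19, true), (8, 19, true), (6, 19, true), (7, 19, true), (5, 19, true), (6, 19, true), (3, 12, true), (4, 13, true), (5, 13, true), (6, 13, true), (7, 13, true), (8, 14, true), (9, 14, true), (8, 20, true), (7, 19, true), (8, 19, true), (9, 19, true), (10, 19, true), (6, 19, true), (7, 19, true), (8, 19, true), (9, 19, true), (3, 16, true), (4, 16, true), (5, 17, true), (6, 17, true), (7, 17, true), (8, 17, true), (3, 15, true), (7, 16, true), (8, 16, true), (9, 17, true), (10, 17, true), (11, 17, true), (12, 17, true), (6, 16, true), (7, 16, true), (8, 17, true), (9, 17, true), (10, 17, true), (11, 17, true), (7, 19, true), (6, 19, true), (6, 20, true), (5, 17, true), (6,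 17, true), (7, 17, true), (8, 17, true), (4, 17, true), (5, 17, true), (2, 12, true), (3, 12, true), (4, 12, true), (5, 13, true), (6, 13, true), (7, 14, true), (8, 14, true), (9, 14, true), (0, 2, true), (1, 2, true), (2, 2, true), (3, 2, true), (4, 2, true)]),
  ([8, 2, 7], [(2, 26, false), (1, 2, false), (10, 10, false), (9, 10, false), (8, 10, false), (7, 9, false), (6, 9, false), (5, 8, false), (4, 8, false), (3, 8, false), (2, 7, false), (8, 19, false), (9, 20, false), (8, 9, false), (7, 9, false), (6, 8, false), (5, 8, false), (4, 8, false), (3, 7, false), (9, 19, false), (1, 26, true), (0, 27, false), (5, 28, false), (4, 5, false), (3, 4, false), (2, 1, false), (1, 1, false), (10, 10, false), (9, 10, false), (8, 9, false), (7, 8, false), (6, 8, false), (5, 8, false), (4, 8, false), (3, 7, false), (12, 14, false), (11, 14, false), (10, 14, false), (9, 13, false), (8, 12, false), (7, 12, false), (6, 12, false), (5, 12, false), (8, 17, false), (7, 17, false), (11, 17, false), (10, 17, false), (9, 17, false), (8, 17, false), (9, 20, false), (9, 17, false), (12, 19, false), (11, 19, false), (10, 19, false), (11, 20, false), (11, 17, false),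 (10, 16, false), (6, 15, false), (7, 17, false), (6, 16, false), (8, 17, false), (7, 16, false), (9, 17, false), (8, 16, false), (10, 19, false), (13, 19, false), (12, 19, false), (11, 19, false), (12, 20, false), (13, 5, false), (12, 5, false), (11, 4, false), (10, 4, false), (9, 4, false), (8, 3, false), (7, 3, false), (6, 3, false), (5, 2, false), (4, 2, false), (3, 1, false), (2, 1, false), (11, 10, false), (10, 10, false), (9, 9, false), (8, 8, false), (7, 8, false), (6, 8, false), (5, 8, false), (4, 7, false), (13, 14, false), (12, 14, false), (11, 14, false), (10, 13, false), (9, 12, false), (8, 12, false), (7, 12, false), (6, 12, false), (9, 17, false), (8, 17, false), (12, 17, false), (11, 17, false), (10, 17, false), (9, 17, false), (10, 20, false), (10, 17, false), (13, 19, false), (12, 19, false), (11, 19, false), (12, 20, false), (12, 17, false), (11, 16, false), (7, 15, false), (8, 17, false), (7, 16, false), (9, 17, false), (8, 16, false), (10, 17, false), (9, 16, false), (11, 19, false), (14, 14, false), (13, 14, false), (12, 14, false), (11, 13, false), (10, 13, false), (9, 12, false), (8, 12, false), (7, 12, false), (10, 17,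 false), (9, 17, false), (13, 17, false), (12, 17, false), (11, 17, false), (10, 17, false), (11, 20, false), (11, 19, false), (12, 19, false), (16, 17, false), (15, 17, false), (14, 17, false), (13, 17, false), (12, 16, false), (11, 16, false), (17, 17, false), (16, 17, false), (15, 17, false), (14, 17, false), (13, 16, false), (12, 16, false), (8, 15, false), (13, 17, false), (12, 17, false), (11, 17, false), (10, 17, false), (9, 16, false), (8, 16, false), (14, 19, false), (13, 19, false), (12, 19, false), (11, 19, false), (15, 19, false), (14, 19, false), (13, 19, false), (12, 19, false), (13, 20, false), (14, 14, false), (13, 14, false), (12, 13, false), (11, 13, false), (10, 13, false), (9, 13, false), (8, 12, false), (11, 19, false), (10, 19, false), (12, 19, false), (11, 19, false), (13, 19, false), (12, 19, false), (14, 19, false), (13, 19, false), (17, 17, false), (16, 17, false), (15, 17, false), (14, 17, false), (13, 16, false), (12, 16, false), (11, 16, false), (10, 16, false), (18, 17, false), (17, 17, false), (16, 17, false), (15, 17, false), (14, 16, false), (13, 16, false), (12, 16, false), (11, 16, false), (19, 17, false), (18,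 17, false), (17, 17, false), (16, 17, false), (15, 16, false), (14, 16, false), (13, 16, false), (12, 16, false), (20, 19, false), (19, 19, false), (18, 19, false), (17, 19, false), (13, 18, false), (16, 19, false), (15, 19, false), (14, 19, false), (13, 19, false), (14, 20, false), (15, 17, false), (14, 17, false), (13, 16, false), (9, 15, false), (11, 19, false), (10, 19, false), (12, 19, false), (11, 19, false), (13, 19, false), (12, 19, false), (16, 17, false), (15, 17, false), (14, 17, false), (13, 17, false), (12, 16, false), (11, 16, false), (10, 16, false), (9, 16, false), (17, 19, false), (16, 19, false), (15, 19, false), (14, 19, false), (10, 18, false), (13, 19, false), (12, 19, false), (11, 19, false), (10, 19, false), (14, 19, false), (13, 19, false), (12, 19, false), (11, 19, false), (12, 20, false), (12, 17, false), (11, 16, false), (10, 16, false), (13, 19, false), (14, 19, false), (15, 19, false), (11, 18, false), (13, 19, false), (12, 19, false), (11, 19, false), (12, 20, false), (12, 19, false), (16, 19, false), (15, 19, false), (14, 19, false), (13, 19, false), (14, 20, false), (17, 10, false), (16, 10, false), (15, 10, false),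 (14, 10, false), (13, 9, false), (12, 9, false), (11, 9, false), (10, 8, false), (9, 8, false), (8, 7, false), (7, 7, false), (6, 7, false), (5, 7, false), (13, 19, false), (15, 19, false), (14, 19, false), (15, 20, false), (16, 10, false), (15, 10, false), (14, 9, false), (13, 9, false), (12, 9, false), (11, 8, false), (10, 8, false), (9, 7, false), (8, 7, false), (7, 7, false), (6, 7, false), (14, 19, false), (16, 19, false), (15, 19, false), (16, 20, false), (15, 9, false), (14, 9, false), (13, 9, false), (12, 8, false), (11, 8, false), (10, 7, false), (9, 7, false), (8, 7, false), (7, 7, false), (3, 6, false), (10, 19, false), (12, 19, false), (11, 19, false), (14, 10, false), (13, 10, false), (12, 10, false), (11, 9, false), (10, 9, false), (9, 9, false), (8, 8, false), (7, 8, false), (6, 7, false), (5, 7, false), (4, 7, false), (3, 7, false), (11, 19, false), (13, 19, false), (12, 19, false), (13, 20, false), (13, 14, false), (12, 13, false), (11, 13, false), (10, 13, false), (9, 12, false), (8, 12, false), (4, 11, false), (6, 17, false), (5, 17, false), (9, 19, false), (8, 19, false), (7, 19, false), (6, 19, false), (10, 19, false), (9,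 19, false), (8, 19, false), (7, 19, false), (11, 19, false), (10, 19, false), (9, 19, false), (8, 19, false), (9, 20, false), (8, 13, false), (7, 13, false), (6, 13, false), (5, 12, false), (4, 12, false), (7, 17, false), (6, 17, false), (10, 19, false), (9, 19, false), (8, 19, false), (7, 19, false), (11, 19, false), (10, 19, false), (9, 19, false), (8, 19, false), (12, 19, false), (11, 19, false), (10, 19, false), (9, 19, false), (13, 14, false), (12, 14, false), (11, 14, false), (10, 14, false), (9, 13, false), (8, 13, false), (7, 13, false), (6, 12, false), (5, 12, false), (8, 17, false), (7, 17, false), (11, 19, false), (10, 19, false), (9, 19, false), (8, 19, false), (12, 19, false), (11, 19, false), (10, 19, false), (9, 19, false), (13, 19, false), (12, 19, false), (11, 19, false), (10, 19, false), (11, 20, false), (13, 17, false), (12, 17, false), (11, 17, false), (10, 16, false), (9, 16, false), (8, 16, false), (14, 17, false), (13, 17, false), (12, 17, false), (11, 16, false), (10, 16, false), (9, 16, false), (15, 19, false), (14, 19, false), (13, 19, false), (14, 20, false), (14, 29, false), (13, 16, false), (12, 16, false), (11, 16,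 false), (10, 16, false), (6, 15, false), (6, 18, false), (13, 29, false), (12, 17, false), (11, 17, false), (10, 17, false), (9, 17, false), (8, 16, false), (7, 16, false), (6, 16, false), (13, 19, false), (12, 19, false), (11, 19, false), (10, 19, false), (14, 19, false), (13, 19, false), (12, 19, false), (11, 19, false), (7, 18, false), (10, 19, false), (9, 19, false), (8, 19, false), (7, 19, false), (11, 19, false), (10, 19, false), (9, 19, false), (8, 19, false), (9, 20, false), (12, 29, false), (11, 17, false), (10, 17, false), (9, 17, false), (8, 16, false), (7, 16, false), (12, 19, false), (11, 19, false), (10, 19, false), (13, 19, false), (12, 19, false), (11, 19, false), (14, 19, false), (13, 19, false), (12, 19, false), (8, 18, false), (10, 19, false), (9, 19, false), (8, 19, false), (9, 20, false), (11, 30, false), (10, 19, false), (9, 19, false), (11, 19, false), (10, 19, false), (12, 19, false), (11, 19, false), (16, 30, false), (15, 19, false), (14, 19, false), (13, 19, false), (12, 19, false), (8, 18, false), (11, 19, false), (10, 19, false), (9, 19, false), (8, 19, false), (12, 19, false), (11, 19, false), (10, 19, false), (9,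 19, false), (10, 20, false), (11, 31, false), (10, 19, false), (11, 19, false), (12, 19, false), (8, 18, false), (8, 20, false), (8, 31, false), (10, 19, true), (11, 19, true), (12, 19, true), (9, 19, true), (3, 7, true), (4, 7, true), (5, 8, true), (6, 8, true), (7, 9, true), (8, 9, true), (9, 10, true), (9, 20, true), (8, 19, true), (3, 6, true), (7, 7, true), (8, 7, true), (9, 8, true), (10, 8, true), (11, 9, true), (12, 9, true), (13, 10, true), (14, 10, true), (15, 10, true), (16, 10, true), (13, 20, true), (12, 19, true), (13, 19, true), (14, 19, true), (15, 19, true), (11, 19, true), (12, 19, true), (11, 18, true), (15, 19, true), (16, 19, true), (14, 19, true), (15, 19, true), (10, 16, true), (11, 16, true), (12, 16, true), (13, 17, true), (14, 17, true), (9, 20, true), (9, 18, true), (13, 19, true), (14, 19, true), (12, 19, true), (13, 19, true), (9, 15, true), (13, 16, true), (14, 16, true), (15, 16, true), (16, 17, true), (17, 17, true), (12, 16, true), (13, 16, true), (14, 16, true), (15, 17, true), (16, 17, true), (11, 16, true), (12, 16, true), (13, 16, true), (14, 17, true), (15, 17, true), (14, 20, true), (13, 19, true), (14, 19,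 true), (15, 19, true), (16, 19, true), (12, 19, true), (13, 19, true), (14, 19, true), (15, 19, true), (11, 19, true), (12, 19, true), (13, 19, true), (14, 19, true), (10, 17, true), (11, 17, true), (8, 12, true), (9, 12, true), (10, 13, true), (11, 13, true), (12, 13, true), (13, 14, true), (14, 14, true), (15, 14, true), (9, 16, true), (8, 16, true), (8, 15, true), (12, 16, true), (13, 20, true), (12, 19, true), (13, 19, true), (14, 19, true), (11, 17, true), (11, 20, true), (10, 17, true), (11, 17, true), (12, 17, true), (13, 17, true), (9, 17, true), (10, 17, true), (7, 12, true), (8, 12, true), (9, 12, true), (10, 12, true), (11, 13, true), (12, 14, true), (13, 14, true), (12, 20, true), (11, 19, true), (12, 19, true), (13, 19, true), (14, 19, true), (11, 18, true), (15, 19, true), (16, 19, true), (17, 19, true), (18, 19, true), (10, 16, true), (11, 16, true), (12, 16, true), (13, 16, true), (14, 17, true), (15, 17, true), (16, 17, true), (17, 17, true), (9, 16, true), (10, 16, true), (11, 16, true), (12, 16, true), (13, 17, true), (14, 17, true), (15, 17, true), (16, 17, true), (8, 16, true), (9, 16, true), (10, 16, true), (11, 16, true),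 (12, 17, true), (13, 17, true), (14, 17, true), (15, 17, true), (11, 19, true), (12, 19, true), (10, 19, true), (11, 19, true), (9, 19, true), (10, 19, true), (8, 19, true), (9, 19, true), (7, 11, true), (11, 12, true), (12, 13, true), (13, 13, true), (14, 13, true), (15, 13, true), (16, 14, true), (17, 14, true), (11, 16, true), (12, 16, true), (13, 16, true), (11, 15, true), (15, 16, true), (16, 16, true), (17, 16, true), (14, 16, true), (15, 16, true), (16, 16, true), (13, 16, true), (14, 16, true), (15, 16, true), (16, 20, true), (15, 19, true), (16, 19, true), (17, 19, true), (18, 19, true), (14, 19, true), (15, 19, true), (16, 19, true), (17, 19, true), (13, 19, true), (14, 19, true), (15, 19, true), (16, 19, true), (12, 17, true), (13, 17, true), (10, 12, true), (11, 12, true), (12, 13, true), (13, 13, true), (14, 13, true), (15, 14, true), (15, 20, true), (14, 19, true), (15, 19, true), (13, 19, true), (6, 7, true), (7, 7, true), (8, 7, true), (9, 8, true), (10, 8, true), (11, 9, true), (12, 9, true), (13, 9, true), (14, 10, true), (15, 10, true), (16, 10, true), (13, 19, true), (10, 16, true), (11, 16, true), (12, 17, true), (9, 16, true),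 (10, 16, true), (11, 17, true), (9, 15, true), (13, 16, true), (14, 16, true), (15, 17, true), (12, 16, true), (13, 16, true), (14, 17, true), (13, 19, true), (12, 19, true), (12, 20, true), (11, 17, true), (12, 17, true), (13, 17, true), (14, 17, true), (10, 17, true), (11, 17, true), (8, 12, true), (9, 12, true), (10, 12, true), (11, 13, true), (12, 13, true), (13, 20, true), (12, 19, true), (5, 7, true), (6, 7, true), (7, 8, true), (8, 8, true), (9, 8, true), (10, 9, true), (11, 9, true), (12, 10, true), (13, 10, true), (14, 10, true), (11, 19, true), (9, 16, true), (10, 17, true), (8, 16, true), (9, 17, true), (7, 16, true), (8, 17, true), (7, 15, true), (11, 16, true), (12, 17, true), (12, 20, true), (11, 19, true), (12, 19, true), (13, 19, true), (10, 17, true), (10, 20, true), (9, 17, true), (10, 17, true), (11, 17, true), (12, 17, true), (8, 17, true), (9, 17, true), (6, 12, true), (7, 12, true), (8, 12, true), (9, 12, true), (10, 13, true), (11, 14, true), (12, 14, true), (13, 14, true), (4, 7, true), (5, 8, true), (6, 8, true), (7, 8, true), (8, 8, true), (9, 9, true), (10, 10, true), (11, 10, true), (2, 1, true), (3, 1, true), (4, 1,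 true), (5, 1, true), (6, 2, true), (7, 2, true), (8, 2, true), (9, 3, true), (10, 3, true), (11, 4, true), (12, 5, true), (13, 5, true), (14, 27, true), (0, 28, true)]),
  ([8, 2, 2, 2, 2, 2], [(1, 11, false), (0, 20, true), (0, 18, true), (4, 19, true), (5, 19, true), (6, 19, true), (0, 15, true), (4, 16, true), (5, 16, true), (6, 16, true), (7, 16, true), (8, 17, true), (9, 17, true), (10, 17, true), (3, 16, true), (4, 16, true), (5, 16, true), (6, 16, true), (7, 17, true), (8, 17, true), (9, 17, true), (6, 19, true), (5, 19, true), (4, 19, true), (3, 19, true), (3, 20, true), (2, 17, true), (3, 17, true), (4, 17, true), (5, 17, true), (1, 17, true), (2, 17, true), (0, 11, true), (4, 12, true), (5, 12, true), (6, 12, true), (7, 13, true), (8, 13, true), (9, 13, true), (10, 13, true), (11, 14, true), (12, 14, true), (10, 19, true), (9, 19, true), (8, 19, true), (7, 19, true), (7, 20, true), (6, 17, true), (7, 17, true), (8, 17, true), (9, 17, true), (5, 17, true), (6, 17, true), (3, 12, true), (4, 12, true), (5, 12, true), (6, 13, true), (7, 13, true), (8, 13, true), (9, 13, true), (10, 14, true), (9, 19, true), (8, 19, true), (7, 19, true),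 (6, 19, true), (6, 20, true), (5, 17, true), (6, 17, true), (7, 17, true), (8, 17, true), (4, 17, true), (5, 17, true), (2, 12, true), (3, 12, true), (4, 12, true), (5, 13, true), (6, 13, true), (7, 13, true), (8, 13, true), (9, 20, true), (8, 19, true), (9, 19, true), (10, 19, true), (7, 19, true), (8, 19, true), (6, 19, true), (0, 6, true), (4, 7, true), (5, 7, true), (6, 8, true), (7, 8, true), (8, 8, true), (9, 9, true), (10, 9, true), (11, 9, true), (12, 9, true), (13, 10, true), (13, 20, true), (12, 19, true), (13, 19, true), (14, 19, true), (11, 19, true), (12, 19, true), (10, 19, true), (3, 7, true), (4, 7, true), (5, 8, true), (6, 8, true), (7, 8, true), (8, 9, true), (9, 9, true), (10, 9, true), (11, 9, true), (12, 10, true), (13, 10, true), (12, 20, true), (11, 19, true), (12, 19, true), (13, 19, true), (10, 19, true), (11, 19, true), (9, 19, true), (2, 7, true), (3, 7, true), (4, 8, true), (5, 8, true), (6, 8, true), (7, 9, true), (8, 9, true), (9, 9, true), (10, 9, true), (11, 10, true), (12, 10, true), (13, 10, true), (11, 20, true), (10, 19, true), (11, 19, true), (12, 19, true), (9, 19, true), (10, 19, true), (8, 19, true), (1,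 7, true), (2, 7, true), (3, 8, true), (4, 8, true), (5, 8, true), (6, 9, true), (7, 9, true), (8, 9, true), (9, 9, true), (10, 10, true), (11, 10, true), (12, 10, true), (13, 10, true), (10, 20, true), (9, 19, true), (10, 19, true), (11, 19, true), (12, 19, true), (8, 19, true), (8, 20, true), (7, 19, true), (8, 19, true), (9, 19, true), (6, 19, true), (6, 18, true), (10, 19, true), (9, 19, true), (5, 16, true), (6, 16, true), (7, 16, true), (8, 17, true), (8, 20, true), (7, 19, true), (8, 19, true), (9, 19, true), (6, 19, true), (7, 19, true), (8, 19, true), (4, 16, true), (5, 17, true), (6, 17, true), (7, 17, true), (3, 16, true), (4, 17, true), (5, 17, true), (6, 17, true), (3, 15, true), (7, 16, true), (8, 17, true), (9, 17, true), (10, 17, true), (7, 19, true), (8, 19, true), (9, 19, true), (6, 17, true), (6, 20, true), (5, 17, true), (6, 17, true), (7, 17, true), (8, 17, true), (4, 17, true), (5, 17, true), (2, 12, true), (3, 12, true), (4, 12, true), (5, 12, true), (6, 13, true), (7, 20, true), (6, 19, true), (7, 19, true), (8, 19, true), (5, 17, true), (6, 17, true), (7, 17, true), (4, 17, true), (5, 17, true), (6, 17, true), (3, 17, true),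 (4, 17, true), (5, 17, true), (2, 17, true), (3, 17, true), (4, 17, true), (1, 14, true), (2, 14, true), (3, 14, true), (0, 10, true), (1, 10, true), (2, 10, true), (0, 0, true), (4, 1, true), (5, 2, true), (6, 3, true), (7, 4, true), (8, 4, true), (9, 4, true), (10, 5, true), (11, 5, true), (10, 20, true), (9, 19, true), (9, 20, true), (8, 19, true), (9, 19, true), (10, 19, true), (11, 19, true), (7, 19, true), (8, 19, true), (9, 19, true), (10, 19, true), (7, 18, true), (11, 19, true), (12, 19, true), (13, 19, true), (14, 19, true), (6, 16, true), (7, 16, true), (8, 16, true), (9, 16, true), (10, 17, true), (11, 17, true), (12, 17, true), (13, 17, true), (9, 19, true), (10, 19, true), (8, 19, true), (9, 19, true), (7, 19, true), (8, 19, true), (6, 15, true), (10, 16, true), (11, 17, true), (12, 17, true), (3, 1, true), (4, 3, true), (5, 3, true), (6, 4, true), (7, 5, true), (8, 5, true), (9, 5, true), (10, 28, true), (6, 19, true), (5, 17, true), (4, 17, true), (4, 11, true), (8, 14, true), (7, 14, true), (6, 14, true), (3, 7, true), (4, 7, true), (5, 10, true), (3, 6, true), (7, 7, true), (8, 7, true), (9, 10, true), (6, 7, true), (7, 7, true),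 (8, 10, true), (5, 7, true), (6, 7, true), (7, 10, true), (7, 20, true), (7, 18, true), (11, 20, true), (10, 19, true), (11, 19, true), (7, 15, true), (11, 20, true), (11, 18, true), (15, 19, true), (16, 19, true), (17, 19, true), (14, 19, true), (15, 19, true), (16, 19, true), (13, 19, true), (14, 19, true), (15, 19, true), (10, 16, true), (11, 16, true), (12, 17, true), (13, 17, true), (14, 17, true), (11, 19, true), (9, 16, true), (10, 17, true), (8, 16, true), (9, 17, true), (7, 16, true), (8, 17, true), (7, 15, true), (11, 16, true), (12, 17, true), (12, 20, true), (11, 19, true), (12, 19, true), (13, 19, true), (10, 17, true), (10, 20, true), (9, 17, true), (10, 17, true), (11, 17, true), (12, 17, true), (8, 17, true), (9, 17, true), (6, 12, true), (7, 12, true), (8, 12, true), (9, 12, true), (10, 13, true), (11, 14, true), (12, 14, true), (13, 14, true), (4, 7, true), (5, 8, true), (6, 8, true), (7, 8, true), (8, 8, true), (9, 9, true), (10, 10, true), (11, 10, true), (2, 1, true), (3, 1, true), (4, 3, true), (5, 3, true), (6, 4, true), (7, 4, true), (8, 5, true), (9, 5, true), (10, 5, true), (8, 20, true), (7, 19, true), (8, 19, true),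 (7, 20, true), (6, 19, true), (7, 19, true), (8, 19, true), (9, 19, true), (6, 18, true), (10, 19, true), (10, 20, true), (9, 19, true), (10, 19, true), (11, 19, true), (5, 16, true), (4, 16, true), (4, 15, true), (8, 16, true), (9, 20, true), (8, 19, true), (9, 19, true), (10, 19, true), (7, 17, true), (7, 20, true), (6, 17, true), (7, 17, true), (8, 17, true), (9, 17, true), (5, 17, true), (6, 17, true), (4, 11, true), (8, 12, true), (9, 12, true), (10, 12, true), (11, 12, true), (12, 13, true), (13, 14, true), (14, 14, true), (13, 20, true), (12, 19, true), (13, 19, true), (14, 19, true), (15, 19, true), (12, 18, true), (16, 19, true), (17, 19, true), (18, 19, true), (19, 19, true), (11, 16, true), (12, 16, true), (13, 16, true), (14, 16, true), (15, 17, true), (16, 17, true), (17, 17, true), (18, 17, true), (10, 16, true), (11, 16, true), (12, 16, true), (13, 16, true), (14, 17, true), (15, 17, true), (16, 17, true), (17, 17, true), (9, 16, true), (10, 16, true), (11, 16, true), (12, 16, true), (13, 17, true), (14, 17, true), (15, 17, true), (16, 17, true), (12, 19, true), (13, 19, true), (11, 19, true), (12, 19, true), (10, 19, true), (11,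 19, true), (9, 19, true), (10, 19, true), (7, 12, true), (8, 13, true), (9, 13, true), (10, 13, true), (11, 13, true), (12, 14, true), (13, 14, true), (12, 20, true), (11, 19, true), (12, 19, true), (13, 19, true), (14, 19, true), (10, 19, true), (11, 19, true), (12, 19, true), (13, 19, true), (7, 16, true), (8, 16, true), (9, 17, true), (10, 17, true), (11, 17, true), (12, 17, true), (7, 15, true), (11, 16, true), (12, 16, true), (13, 17, true), (14, 17, true), (15, 17, true), (16, 17, true), (10, 16, true), (11, 16, true), (12, 17, true), (13, 17, true), (14, 17, true), (15, 17, true), (11, 19, true), (10, 19, true), (10, 20, true), (9, 17, true), (10, 17, true), (11, 17, true), (12, 17, true), (8, 17, true), (9, 17, true), (6, 12, true), (7, 12, true), (8, 12, true), (9, 13, true), (10, 13, true), (11, 14, true), (12, 14, true), (13, 14, true), (10, 19, true), (8, 16, true), (9, 17, true), (7, 16, true), (8, 17, true), (6, 16, true), (7, 17, true), (6, 15, true), (10, 16, true), (11, 17, true), (11, 20, true), (10, 19, true), (11, 19, true), (12, 19, true), (9, 17, true), (9, 20, true), (8, 17, true), (9, 17, true), (10, 17, true), (11, 17,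 true), (7, 17, true), (8, 17, true), (5, 12, true), (6, 12, true), (7, 12, true), (8, 12, true), (9, 13, true), (10, 14, true), (11, 14, true), (12, 14, true), (3, 7, true), (4, 8, true), (5, 8, true), (6, 8, true), (7, 8, true), (8, 9, true), (9, 10, true), (10, 10, true), (1, 1, true), (2, 1, true), (3, 2, true), (4, 2, true), (5, 2, true), (6, 4, true), (7, 4, true), (8, 4, true), (9, 4, true), (10, 5, true), (11, 5, true), (12, 5, true), (13, 28, true), (9, 19, true), (6, 15, true), (10, 16, true), (11, 16, true), (12, 16, true), (13, 17, true), (9, 16, true), (10, 16, true), (11, 16, true), (12, 17, true), (11, 19, true), (10, 19, true), (9, 19, true), (9, 20, true), (8, 17, true), (9, 17, true), (10, 17, true), (11, 17, true), (7, 17, true), (8, 17, true), (5, 12, true), (6, 12, true), (7, 12, true), (8, 13, true), (9, 13, true), (10, 13, true), (11, 20, true), (10, 19, true), (9, 19, true), (8, 19, true), (8, 20, true), (7, 17, true), (8, 17, true), (9, 17, true), (10, 17, true), (6, 17, true), (7, 17, true), (4, 12, true), (5, 12, true), (6, 12, true), (7, 13, true), (8, 13, true), (9, 13, true), (10, 14, true), (11, 14, true), (12, 14,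 true), (13, 14, true), (9, 19, true), (8, 19, true), (7, 19, true), (7, 20, true), (6, 17, true), (7, 17, true), (8, 17, true), (9, 17, true), (5, 17, true), (6, 17, true), (3, 12, true), (4, 12, true), (5, 12, true), (6, 13, true), (7, 13, true), (8, 13, true), (9, 14, true), (10, 14, true), (11, 14, true), (8, 19, true), (9, 19, true), (7, 19, true), (2, 8, true), (3, 8, true), (4, 8, true), (5, 9, true), (6, 9, true), (7, 9, true), (8, 20, true), (7, 19, true), (8, 19, true), (6, 19, true), (1, 8, true), (2, 8, true), (3, 8, true), (4, 9, true), (5, 9, true), (6, 9, true), (7, 10, true), (8, 10, true), (7, 20, true), (6, 19, true), (7, 19, true), (5, 19, true), (1, 6, true), (5, 8, true), (6, 8, true), (7, 8, true), (8, 9, true), (9, 9, true), (10, 9, true), (11, 10, true), (12, 10, true), (13, 10, true), (14, 10, true), (10, 19, true), (11, 19, true), (9, 19, true), (4, 8, true), (5, 8, true), (6, 8, true), (7, 9, true), (8, 9, true), (9, 9, true), (10, 10, true), (10, 20, true), (9, 19, true), (10, 19, true), (11, 19, true), (4, 11, true), (8, 20, true), (8, 18, true), (12, 19, true), (13, 19, true), (11, 19, true), (12, 19, true), (8, 15,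 true), (12, 16, true), (13, 16, true), (14, 16, true), (15, 17, true), (16, 17, true), (11, 16, true), (12, 16, true), (13, 16, true), (14, 17, true), (15, 17, true), (10, 16, true), (11, 16, true), (12, 16, true), (13, 17, true), (14, 17, true), (13, 20, true), (12, 19, true), (13, 19, true), (14, 19, true), (15, 19, true), (11, 19, true), (12, 19, true), (13, 19, true), (14, 19, true), (10, 19, true), (11, 19, true), (12, 19, true), (13, 19, true), (9, 17, true), (10, 17, true), (7, 12, true), (8, 12, true), (9, 13, true), (10, 13, true), (11, 13, true), (12, 14, true), (13, 14, true), (14, 14, true), (11, 19, true), (8, 16, true), (9, 16, true), (10, 17, true), (7, 16, true), (8, 16, true), (9, 17, true), (7, 15, true), (11, 16, true), (12, 16, true), (13, 17, true), (10, 16, true), (11, 16, true), (12, 17, true), (11, 19, true), (10, 19, true), (10, 20, true), (9, 17, true), (10, 17, true), (11, 17, true), (12, 17, true), (8, 17, true), (9, 17, true), (6, 12, true), (7, 12, true), (8, 12, true), (9, 13, true), (10, 13, true), (11, 20, true), (10, 19, true), (3, 7, true), (4, 7, true), (5, 8, true), (6, 8, true), (7, 8, true), (8, 9, true),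 (9, 9, true), (10, 10, true), (11, 10, true), (12, 10, true), (9, 19, true), (7, 16, true), (8, 17, true), (6, 16, true), (7, 17, true), (5, 16, true), (6, 17, true), (5, 15, true), (9, 16, true), (10, 17, true), (10, 20, true), (9, 19, true), (10, 19, true), (11, 19, true), (8, 17, true), (8, 20, true), (7, 17, true), (8, 17, true), (9, 17, true), (10, 17, true), (6, 17, true), (7, 17, true), (4, 12, true), (5, 12, true), (6, 12, true), (7, 12, true), (8, 13, true), (9, 14, true), (10, 14, true), (11, 14, true), (2, 7, true), (3, 8, true), (4, 8, true), (5, 8, true), (6, 8, true), (7, 9, true), (8, 10, true), (9, 10, true), (0, 1, true), (1, 1, true), (2, 1, true), (3, 2, true), (4, 2, true), (5, 4, true), (6, 20, true), (5, 20, true), (5, 18, true), (9, 19, true), (10, 19, true), (5, 15, true), (9, 16, true), (10, 20, true), (9, 19, true), (10, 19, true), (9, 18, true), (13, 19, true), (14, 19, true), (8, 16, true), (9, 16, true), (10, 16, true), (11, 16, true), (12, 17, true), (13, 17, true), (7, 16, true), (8, 16, true), (9, 16, true), (10, 16, true), (11, 17, true), (12, 17, true), (6, 16, true), (7, 16, true), (8, 16, true), (9, 16, true),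 (10, 17, true), (11, 17, true), (9, 19, true), (10, 19, true), (8, 19, true), (9, 19, true), (7, 19, true), (8, 19, true), (6, 19, true), (7, 19, true), (4, 12, true), (5, 13, true), (6, 13, true), (7, 13, true), (8, 13, true), (9, 20, true), (8, 19, true), (9, 19, true), (7, 19, true), (8, 19, true), (4, 16, true), (5, 16, true), (6, 17, true), (7, 17, true), (4, 15, true), (8, 16, true), (9, 16, true), (10, 17, true), (11, 17, true), (7, 16, true), (8, 16, true), (9, 17, true), (10, 17, true), (8, 19, true), (7, 19, true), (7, 20, true), (6, 17, true), (7, 17, true), (8, 17, true), (9, 17, true), (5, 17, true), (6, 17, true), (3, 12, true), (4, 12, true), (5, 12, true), (6, 13, true), (7, 13, true), (8, 14, true), (8, 20, true), (7, 19, true), (8, 19, true), (9, 19, true), (6, 19, true), (7, 19, true), (8, 19, true), (5, 17, true), (6, 17, true), (7, 17, true), (4, 17, true), (5, 17, true), (6, 17, true), (3, 17, true), (4, 17, true), (5, 17, true), (3, 11, true), (7, 14, true), (8, 14, true), (9, 14, true), (7, 18, true), (7, 15, true), (11, 16, true), (12, 16, true), (13, 16, true), (10, 16, true), (11, 16, true), (12, 16, true), (9, 16, true),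 (10, 16, true), (11, 16, true), (12, 20, true), (11, 19, true), (12, 19, true), (13, 19, true), (14, 19, true), (10, 19, true), (11, 19, true), (12, 19, true), (13, 19, true), (9, 19, true), (10, 19, true), (11, 19, true), (12, 19, true), (8, 17, true), (9, 17, true), (6, 12, true), (7, 12, true), (8, 13, true), (9, 13, true), (10, 13, true), (11, 14, true), (11, 20, true), (10, 19, true), (11, 19, true), (12, 19, true), (13, 19, true), (7, 16, true), (8, 16, true), (9, 17, true), (10, 17, true), (11, 17, true), (12, 17, true), (6, 16, true), (7, 16, true), (8, 17, true), (9, 17, true), (10, 17, true), (11, 17, true), (6, 15, true), (10, 16, true), (11, 16, true), (12, 17, true), (13, 17, true), (14, 17, true), (15, 17, true), (9, 16, true), (10, 16, true), (11, 17, true), (12, 17, true), (13, 17, true), (14, 17, true), (10, 19, true), (9, 19, true), (9, 20, true), (8, 17, true), (9, 17, true), (10, 17, true), (11, 17, true), (7, 17, true), (8, 17, true), (5, 12, true), (6, 12, true), (7, 12, true), (8, 13, true), (9, 13, true), (10, 14, true), (11, 14, true), (12, 14, true), (9, 19, true), (2, 7, true), (3, 7, true), (4, 8, true), (5, 8, true),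 (6, 8, true), (7, 9, true), (8, 9, true), (9, 10, true), (9, 20, true), (8, 19, true), (9, 19, true), (10, 19, true), (11, 19, true), (6, 16, true), (7, 17, true), (8, 17, true), (9, 17, true), (10, 17, true), (5, 16, true), (6, 17, true), (7, 17, true), (8, 17, true), (9, 17, true), (4, 16, true), (5, 17, true), (6, 17, true), (7, 17, true), (8, 17, true), (4, 15, true), (8, 16, true), (9, 17, true), (10, 17, true), (11, 17, true), (12, 17, true), (8, 19, true), (9, 19, true), (10, 19, true), (7, 17, true), (7, 20, true), (6, 17, true), (7, 17, true), (8, 17, true), (9, 17, true), (5, 17, true), (6, 17, true), (3, 12, true), (4, 12, true), (5, 12, true), (6, 12, true), (7, 13, true), (8, 14, true), (1, 7, true), (2, 8, true), (3, 8, true), (4, 8, true), (5, 8, true), (6, 9, true), (7, 20, true), (6, 19, true), (7, 19, true), (8, 19, true), (5, 17, true), (6, 17, true), (7, 17, true), (4, 17, true), (5, 17, true), (6, 17, true), (3, 17, true), (4, 17, true), (5, 17, true), (2, 17, true), (3, 17, true), (4, 17, true), (1, 14, true), (2, 14, true), (3, 14, true), (0, 10, true), (1, 10, true), (2, 10, true), (0, 0, true), (4, 1, true), (5, 1, true),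 (6, 1, true), (7, 2, true), (8, 2, true), (9, 2, true), (10, 2, true), (11, 3, true), (12, 4, true), (13, 4, true), (14, 5, true), (15, 5, true), (16, 28, true), (11, 16, true), (11, 15, true), (15, 16, true), (16, 20, true), (15, 19, true), (16, 19, true), (17, 19, true), (14, 17, true), (14, 20, true), (13, 17, true), (14, 17, true), (15, 17, true), (16, 17, true), (12, 17, true), (13, 17, true), (10, 12, true), (11, 12, true), (12, 12, true), (13, 12, true), (14, 13, true), (15, 14, true), (16, 14, true), (15, 20, true), (14, 19, true), (15, 19, true), (16, 19, true), (13, 17, true), (13, 20, true), (12, 17, true), (13, 17, true), (14, 17, true), (15, 17, true), (11, 17, true), (12, 17, true), (9, 12, true), (10, 12, true), (11, 12, true), (12, 12, true), (13, 13, true), (14, 14, true), (15, 14, true), (16, 14, true), (17, 14, true), (13, 19, true), (14, 19, true), (15, 19, true), (12, 17, true), (12, 20, true), (11, 17, true), (12, 17, true), (13, 17, true), (14, 17, true), (10, 17, true), (11, 17, true), (8, 12, true), (9, 12, true), (10, 12, true), (11, 12, true), (12, 13, true), (13, 14, true), (6, 7, true), (7, 8, true), (8, 8, true),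 (9, 8, true), (10, 8, true), (11, 9, true), (12, 20, true), (5, 7, true), (6, 8, true), (7, 8, true), (8, 8, true), (9, 8, true), (10, 9, true), (11, 10, true), (12, 10, true), (13, 10, true), (14, 10, true), (4, 7, true), (5, 8, true), (6, 8, true), (7, 8, true), (8, 8, true), (9, 9, true), (10, 10, true), (11, 10, true), (12, 10, true), (4, 6, true), (8, 7, true), (9, 8, true), (10, 8, true), (11, 8, true), (12, 8, true), (13, 9, true), (14, 10, true), (15, 10, true), (14, 20, true), (13, 20, true), (13, 18, true), (17, 19, true), (18, 19, true), (12, 16, true), (13, 20, true), (12, 19, true), (13, 19, true), (14, 19, true), (12, 18, true), (16, 19, true), (17, 19, true), (18, 19, true), (15, 19, true), (16, 19, true), (17, 19, true), (11, 16, true), (12, 16, true), (13, 16, true), (14, 17, true), (15, 17, true), (16, 17, true), (10, 16, true), (9, 16, true), (9, 15, true), (13, 16, true), (14, 20, true), (13, 19, true), (14, 19, true), (15, 19, true), (12, 17, true), (12, 20, true), (11, 17, true), (12, 17, true), (13, 17, true), (14, 17, true), (10, 17, true), (11, 17, true), (8, 12, true), (9, 12, true), (10, 12, true), (11, 12, true), (12,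 13, true), (13, 14, true), (14, 14, true), (13, 20, true), (12, 19, true), (13, 19, true), (14, 19, true), (15, 19, true), (12, 18, true), (16, 19, true), (17, 19, true), (18, 19, true), (19, 19, true), (11, 16, true), (12, 16, true), (13, 16, true), (14, 16, true), (15, 17, true), (16, 17, true), (17, 17, true), (18, 17, true), (10, 16, true), (11, 16, true), (12, 16, true), (13, 16, true), (14, 17, true), (15, 17, true), (16, 17, true), (17, 17, true), (9, 16, true), (10, 16, true), (11, 16, true), (12, 16, true), (13, 17, true), (14, 17, true), (15, 17, true), (16, 17, true), (12, 19, true), (13, 19, true), (11, 19, true), (12, 19, true), (10, 19, true), (11, 19, true), (9, 19, true), (10, 19, true), (8, 11, true), (12, 12, true), (13, 13, true), (14, 13, true), (15, 13, true), (16, 13, true), (17, 14, true), (18, 14, true), (12, 16, true), (13, 16, true), (14, 16, true), (12, 15, true), (16, 16, true), (17, 16, true), (18, 16, true), (15, 16, true), (16, 16, true), (17, 16, true), (14, 16, true), (15, 16, true), (16, 16, true), (17, 20, true), (16, 19, true), (17, 19, true), (18, 19, true), (19, 19, true), (15, 19, true), (16, 19, true), (17,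 19, true), (18, 19, true), (14, 19, true), (15, 19, true), (16, 19, true), (17, 19, true), (13, 17, true), (14, 17, true), (11, 12, true), (12, 12, true), (13, 13, true), (14, 13, true), (15, 13, true), (16, 14, true), (16, 20, true), (15, 19, true), (16, 19, true), (14, 19, true), (7, 7, true), (8, 7, true), (9, 7, true), (10, 8, true), (11, 8, true), (12, 9, true), (13, 9, true), (14, 9, true), (15, 10, true), (16, 10, true), (17, 10, true), (14, 19, true), (11, 16, true), (12, 16, true), (13, 17, true), (10, 16, true), (11, 16, true), (12, 17, true), (10, 15, true), (14, 16, true), (15, 16, true), (16, 17, true), (13, 16, true), (14, 16, true), (15, 17, true), (14, 19, true), (13, 19, true), (13, 20, true), (12, 17, true), (13, 17, true), (14, 17, true), (15, 17, true), (11, 17, true), (12, 17, true), (9, 12, true), (10, 12, true), (11, 12, true), (12, 13, true), (13, 13, true), (14, 20, true), (13, 19, true), (6, 7, true), (7, 7, true), (8, 8, true), (9, 8, true), (10, 8, true), (11, 9, true), (12, 9, true), (13, 10, true), (14, 10, true), (15, 10, true), (12, 19, true), (10, 16, true), (11, 17, true), (9, 16, true), (10, 17, true), (8, 16,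 true), (9, 17, true), (8, 15, true), (12, 16, true), (13, 17, true), (13, 20, true), (12, 19, true), (13, 19, true), (14, 19, true), (11, 17, true), (11, 20, true), (10, 17, true), (11, 17, true), (12, 17, true), (13, 17, true), (9, 17, true), (10, 17, true), (7, 12, true), (8, 12, true), (9, 12, true), (10, 12, true), (11, 13, true), (12, 14, true), (13, 14, true), (14, 14, true), (5, 7, true), (6, 8, true), (7, 8, true), (8, 8, true), (9, 8, true), (10, 9, true), (11, 10, true), (12, 10, true), (3, 1, true), (4, 1, true), (5, 1, true), (6, 1, true), (7, 2, true), (8, 2, true), (9, 3, true), (10, 3, true), (11, 4, true), (12, 4, true), (13, 5, true), (14, 5, true), (15, 5, true), (16, 5, true), (13, 20, true), (12, 19, true), (13, 19, true), (14, 19, true), (15, 19, true), (11, 19, true), (12, 19, true), (11, 18, true), (15, 19, true), (16, 19, true), (14, 19, true), (15, 19, true), (10, 16, true), (11, 16, true), (12, 16, true), (13, 17, true), (14, 17, true), (9, 20, true), (9, 18, true), (13, 19, true), (14, 19, true), (12, 19, true), (13, 19, true), (9, 15, true), (13, 16, true), (14, 16, true), (15, 16, true), (16, 17, true), (17, 17, true),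 (12, 16, true), (13, 16, true), (14, 16, true), (15, 17, true), (16, 17, true), (11, 16, true), (12, 16, true), (13, 16, true), (14, 17, true), (15, 17, true), (14, 20, true), (13, 19, true), (14, 19, true), (15, 19, true), (16, 19, true), (12, 19, true), (13, 19, true), (14, 19, true), (15, 19, true), (11, 19, true), (12, 19, true), (13, 19, true), (14, 19, true), (10, 17, true), (11, 17, true), (8, 12, true), (9, 12, true), (10, 13, true), (11, 13, true), (12, 13, true), (13, 14, true), (14, 14, true), (15, 14, true), (9, 16, true), (8, 16, true), (8, 15, true), (12, 16, true), (13, 20, true), (12, 19, true), (13, 19, true), (14, 19, true), (11, 17, true), (11, 20, true), (10, 17, true), (11, 17, true), (12, 17, true), (13, 17, true), (9, 17, true), (10, 17, true), (7, 12, true), (8, 12, true), (9, 12, true), (10, 12, true), (11, 13, true), (12, 14, true), (13, 14, true), (12, 20, true), (11, 19, true), (12, 19, true), (13, 19, true), (14, 19, true), (11, 18, true), (15, 19, true), (16, 19, true), (17, 19, true), (18, 19, true), (10, 16, true), (11, 16, true), (12, 16, true), (13, 16, true), (14, 17, true), (15, 17, true), (16, 17, true), (17,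 17, true), (9, 16, true), (10, 16, true), (11, 16, true), (12, 16, true), (13, 17, true), (14, 17, true), (15, 17, true), (16, 17, true), (8, 16, true), (9, 16, true), (10, 16, true), (11, 16, true), (12, 17, true), (13, 17, true), (14, 17, true), (15, 17, true), (11, 19, true), (12, 19, true), (10, 19, true), (11, 19, true), (9, 19, true), (10, 19, true), (8, 19, true), (9, 19, true), (7, 11, true), (11, 12, true), (12, 13, true), (13, 13, true), (14, 13, true), (15, 13, true), (16, 14, true), (17, 14, true), (11, 16, true), (12, 16, true), (13, 16, true), (11, 15, true), (15, 16, true), (16, 16, true), (17, 16, true), (14, 16, true), (15, 16, true), (16, 16, true), (13, 16, true), (14, 16, true), (15, 16, true), (16, 20, true), (15, 19, true), (16, 19, true), (17, 19, true), (18, 19, true), (14, 19, true), (15, 19, true), (16, 19, true), (17, 19, true), (13, 19, true), (14, 19, true), (15, 19, true), (16, 19, true), (12, 17, true), (13, 17, true), (10, 12, true), (11, 12, true), (12, 13, true), (13, 13, true), (14, 13, true), (15, 14, true), (15, 20, true), (14, 19, true), (15, 19, true), (13, 19, true), (6, 7, true), (7, 7, true), (8, 7, true),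 (9, 8, true), (10, 8, true), (11, 9, true), (12, 9, true), (13, 9, true), (14, 10, true), (15, 10, true), (16, 10, true), (13, 19, true), (10, 16, true), (11, 16, true), (12, 17, true), (9, 16, true), (10, 16, true), (11, 17, true), (9, 15, true), (13, 16, true), (14, 16, true), (15, 17, true), (12, 16, true), (13, 16, true), (14, 17, true), (13, 19, true), (12, 19, true), (12, 20, true), (11, 17, true), (12, 17, true), (13, 17, true), (14, 17, true), (10, 17, true), (11, 17, true), (8, 12, true), (9, 12, true), (10, 12, true), (11, 13, true), (12, 13, true), (13, 20, true), (12, 19, true), (5, 7, true), (6, 7, true), (7, 8, true), (8, 8, true), (9, 8, true), (10, 9, true), (11, 9, true), (12, 10, true), (13, 10, true), (14, 10, true), (11, 19, true), (9, 16, true), (10, 17, true), (8, 16, true), (9, 17, true), (7, 16, true), (8, 17, true), (7, 15, true), (11, 16, true), (12, 17, true), (12, 20, true), (11, 19, true), (12, 19, true), (13, 19, true), (10, 17, true), (10, 20, true), (9, 17, true), (10, 17, true), (11, 17, true), (12, 17, true), (8, 17, true), (9, 17, true), (6, 12, true), (7, 12, true), (8, 12, true), (9, 12, true), (10, 13, true),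 (11, 14, true), (12, 14, true), (13, 14, true), (4, 7, true), (5, 8, true), (6, 8, true), (7, 8, true), (8, 8, true), (9, 9, true), (10, 10, true), (11, 10, true), (2, 1, true), (3, 1, true), (4, 1, true), (5, 1, true), (6, 2, true), (7, 2, true), (8, 2, true), (9, 3, true), (10, 3, true), (11, 4, true), (12, 5, true), (13, 5, true), (14, 28, true), (0, 28, true)])]

/-- rows -/
def rows0 : List ℕ := [0x180000000000000000000000000005,
  0x10000028000000000000000000000280000000000a0000000000000000000000000000000000000000,
  0x200000500000000000000000000000000000000000000028000050000000000000000000000000000000000000000000000,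
  0x50000000000080000000000500000a0000000000000000000000000000000000000000,
  0x40000000000000000500000000000000002800005000000000000000000000000000000000000000000000000000000000000000000000,
  0xa0000000000000000000000000000000000000000000000000000000000000000000000000000000000000440000000000000000000000000000000000,
  0x14000028000000000000000000000000000000000000000000000000000000000000000000000000000000220000140000000000000000000000000000000000,
  0xa000000000028000000000000000000000000000000000000000000000000000000000000000000000000110000000000140000000000000000000000000000000000,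
  0x100000000000a000014000000000000000000000000000000000000000000000000000000005000000000000000000000080000060000140000000000000000000000000000000000,
  0xa0000000000280000000000000000000000000000000000000000000000000000000200000000000880000c00000000000000000000000000000000000000000000000000000000000000000000000000000000000000000000,
  0x400005000001400000000000000000000000000000000000000000000000000a0000000000000000000000000000000000000000000000000000,
  0x100000000002000001000000000004000002000000000000000030000028000000000000000000000080000500000000000000002800000,
  0x500000000000000000000000000000000000000000000000000000000080000f00000340000000000000000000000000000000000000000000000000000000000000000000000000000000000000000000000000000000,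
  0xa0000000000000000000000a000014000000000000000000000000000000000c00006c00000000000000000000000000000000000000000000000000480000c0000000000000000000000880000c00000000000000000000000,
  0x5000000000014000000000080000a00000000000000000000000000003000008800004000000000040000100000080000100000000000000000000000000000000000000000,
  0x400000000002800005000000000000000000000000000000000000000000001a000066000028000090000010000000000400000000000d000000000040000000000100000000000000000e00001800001000000000000000000,
  0x600000c0000280000000000a00001400000000000000000000000000000000150000a600002000000800001000000000000000000000000000000000380000b00000a0000000000000000800001000000a00000000000000000,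
  0x14000000000000000000000100001680000440002800002800000800005000014000028000008000000000000000000000000000000000000000000000000000000000000000,
  0x1c0001680000200005a0000780000180000a00001400002800000a000000000000000000000000000000000000000000000000005000000000000,
  0x40000080000180000500000a000014000000000000000000000000000000004a0003980000500008f0000fc0000320000f00002480005200000a0001100001d00004a0000780000140000580000800001600003c0000a000000,
  0x140000000000000000000000000000000000000000000154000bb0000110002f00003540000d80004900009a00019800003a0003e000068000140000140000040000260000400000500000f000028000008]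

/-- rows -/
def rows : List ℕ := rows0

/-- the certificate -/
def D : Cert where
  b := 23
  m := 5
  n := 32
  ns := 21
  rules := rules
  M := 8385
  rows := rows
  gauge := [0x400000000000000000000000000000000000000000000000000000000000000000000000000000000000000000000000000000000000000000000000000000000000000000000000000000,
    0,
    0x800000800004,
    0x400000800000000000,
    0x400000000000000002,
    2,
    0,
    0,
    0]
  prm := []
  ords := []
  certs := [(0, 0),
    (0, 0),
    (0, 0),
    (0, 0),
    (0x304200420201044111212, 0),
    (2, 0),
    (0x300000, 0),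
    (0x3000000, 0),
    (0x30000000, 0),
    (0x103400330432033241423, 0),
    (0x3000, 0),
    (0x2400002010000000000, 0),
    (0x201300010130000432200, 0),
    (0x403000001242, 0),
    (0x40, 0),
    (0x3000002000000000000, 0),
    (0x3000010100, 0),
    (0x400, 0),
    (0x2010000000000, 0),
    (0x30000, 0),
    (0x40000000000, 0)]
  ocerts := []

theorem path0 : Rows D.b D.m D.n D.M D.rules rows0 := rowsB_spec (ps := paths0) (by decide +kernel)

theorem tgt_ok : (List.range D.ns).all D.tgtB = true := by decide +kernel

theorem good : D.Good where
  m1 := by decide
  nsn := by decide +kernel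
  rows := path0
  gau := by decide +kernel
  prm := by decide +kernel
  bnd := by decide +kernel
  tgt := fun r hr => (List.all_eq_true.1 tgt_ok) r (List.mem_range.2 hr)
  ord := fun j hj => absurd hj (Nat.not_lt_zero j)

theorem pc_ok : pcB 5 6 D.ns D.rules = true := by decide +kernel

end Cfsg.Agent.MRel.HNC5
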