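import Cfsg.Agent.MRel.HSC
import Cfsg.Agent.Stn.HSRec

set_option autoImplicit false
set_option maxRecDepth 1000000

/-!
Identification of the presented Higman–Sims group (owner: helper83).
-/

namespace Cfsg.Agent.MRel.HS

open Cfsg.Agent.CosetEnum Subgroup

section

open Cfsg.Agent.Stn

theorem hs_of_srg {V : Type} [Fintype V] (Δ : SimpleGraph V) [DecidableRel Δ.Adj] (hsrg : Δ.IsSRGWith 100 22 0 6) (a : V)
    {H : Type} [Group H] (ψ : H →* (Δ ≃g Δ)) (hj : Function.Injective ψ) (hcG : Nat.card H = 44352000) :
    Nonempty (H ≃* Spor.HS) := by
  classical
  have hcA : Nat.card (Δ ≃g Δ) = 88704000 := by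
    obtain ⟨c1, s1⟩ := srg_steiner hsrg a
    obtain ⟨φ, -⟩ := srg_iso hsrg a
    rw [← card_pbg_aut c1 s1]
    apply Nat.card_congr
    exact
      { toFun := fun ψ => (φ.trans ψ).trans φ.symm
        invFun := fun ψ => (φ.symm.trans ψ).trans φ
        left_inv := fun ψ => by ext1 x; simp [RelIso.trans_apply]
        right_inv := fun ψ => by ext1 x; simp [RelIso.trans_apply] }
  have hfin : Finite (Δ ≃g Δ) := Nat.finite_of_card_ne_zero (by rw [hcA]; norm_num)
  obtain ⟨f, hf, -⟩ := hs_in_srg hsrg
  have i1 : ψ.range.index = 2 := by
    have h1 := ψ.range.index_mul_card
    rw [hcA, ← Nat.card_congr (MonoidHom.ofInjective hj).toEquiv, hcG] at h1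
    omega
  have i2 : f.range.index = 2 := by
    have h1 := f.range.index_mul_card
    rw [hcA, ← Nat.card_congr (MonoidHom.ofInjective hf).toEquiv, isHS_stHS.2] at h1
    omega
  have hs : IsSimpleGroup f.range := simple_equiv (MonoidHom.ofInjective hf) isHS_stHS.1
  have heq := index_two_unique hs i1 i2 (by rw [hcA]; norm_num)
  exact ⟨(((MonoidHom.ofInjective hj).trans (MulEquiv.subgroupCongr heq)).trans (MonoidHom.ofInjective hf).symm).trans
    Cfsg.Agent.H90.Co.isoHS⟩

end

/-- the adjacency matrix -/
def big : ℕ := 0x81bc0000060b8d3f0000002012644005008c54ae30001020104851110110a01e5a000c004081140231c00043571001010800520a280081261a950002040201c204222110059ec002008405080888a10204762600002088a08058002406c21d6000041054100640044820e64d000081122004810c88420718b02040004260221208419900d90800020a42100016b0818a06a100009080448100a0d813028e10202003082000803bc60c806040000d1020801910c250a21320001006900806a800c5820a50040044c00210a0051151827400800a1080220881a149210b2010410104041041c403921229080121600002090387001c542020840a20001071402168894104008020cc000098868ae040320104040284000284e345410500c810000a8000f0303cc08300902080408040068d1c814428120292000000744420caa088840001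c012010302078610301c00426000141032221280d0c4401188001100225a1026805c0100a18080005010172a206190204550800000078414428706102086002800008a4e8010f01a0110144000200a14618301ca0802902400000c136109441099001600220010806d3018028e204201001809000050ed12281188004078010003f070001032c02828041000004c4560640e1204032010080011e084342215041c8000003001190c126d900022700010000302205cac138001440822040000abc090428a4104804c0000088157a0420825089010003400800dc8051e04280800b000060202804f21a450407040008040022c822631a8004842050080004125c588642200a000a800030020e3ac80460808a40000180401431678d00040c1800042040003ba9b110100008a0007a88cd0018010400122210800764b22808080100c0210300d0030f5c0030088000809048128482e348000980050012180188116ac2400024280400a20621808c97040006080600240a07450820555004400010148000001c3f4730000020101047142103b84021c80400022820230122d043022e8000040140840249268103326001200008850405028458d8a00a005000041406181015a8254000404e000115002500e6c81800810128000c1070548110c95400002400a041080a2a2168a818200008088205144164140d8308000010601221481b0814a4401040020181084e0224d0834c0000088046001aa16021035820410400182000041e1c038cc0400000022b8240cd0807210e0040020c2001409d04d020838900003001110804540e8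47c000120410402408202232e852402008182000c00c20ab01901c500100c002402602065ca0118820208000a10441078b004512a00280002140829c40c40125a0023002110020003be0200984c040000244d0081310d51016400014900052005b000717000b05000141080088808644732840120100406040c0289293c180049020020300080969800b4c4102800084108046c41288841912100001a001013d300200c6300000318308003e40602c0a084040048498000ec04095ce0000808c40102000b280149a226000042815000806a8aa002a8120020a2408010095401a05562020801089002004d6940414811001052200840075b09810080880c8086020000d611e181240031000e0200000b922c1225040040e028004000a4f820e090200a810204400008f8d823002040155800800000e35e540401002660401000000d8e32e0800801842310000000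

/-- a row -/
def row (i : ℕ) : ℕ := (big >>> (100 * i)) % 2 ^ 100

/-- number of bits -/
noncomputable def cnt (n k : ℕ) : ℕ := Nat.rec 0 (fun i acc => acc + cond (n.testBit i) 1 0) k

theorem cnt_eq (n k : ℕ) : cnt n k = ∑ i ∈ Finset.range k, cond (n.testBit i) 1 0 := by
  induction k with
  | zero => rfl
  | succ k ih =>
    rw [Finset.sum_range_succ, ← ih]
    rfl

theorem cnt_card (n : ℕ) : (Finset.univ.filter fun z : Fin 100 => n.testBit z = true).card = cnt n 100 := by
  rw [cnt_eq, Finset.card_filter, ← Fin.sum_univ_eq_sum_range (fun i => cond (n.testBit i) 1 0)]
  apply Finset.sum_congr rfl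
  intro z _
  cases n.testBit z <;> rfl

/-- test for all numbers below a bound -/
noncomputable def allN (p : ℕ → Bool) (k : ℕ) : Bool := Nat.rec true (fun i b => cond (p i) b false) k

theorem allN_sound {p : ℕ → Bool} {k : ℕ} (h : allN p k = true) : ∀ i < k, p i = true := by
  induction k with
  | zero => intro i hi; omega
  | succ k ih =>
    have h' : cond (p k) (allN p k) false = true := h
    intro i hi
    cases hk : p k with
    | false => rw [hk] at h'; exact absurd h' (by simp)
    | true =>
      rw [hk] at h'
      rcases Nat.lt_succ_iff_lt_or_eq.1 hi with h1 | h1
      · exact ih h' i h1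
      · rw [h1]; exact hk

theorem t_sym : allN (fun i => allN (fun j => (row i).testBit j == (row j).testBit i) i) 100 = true := by decide +kernel

theorem t_irr : allN (fun i => !(row i).testBit i) 100 = true := by decide +kernel

theorem t_deg : allN (fun i => Nat.beq (cnt (row i) 100) 22) 100 = true := by decide +kernel

theorem t_com : allN (fun i => allN (fun j => cond ((row i).testBit j) (Nat.beq (cnt (row i &&& row j) 100) 0)
    (Nat.beq (cnt (row i &&& row j) 100) 6)) i) 100 = true := by decide +kernel

theorem t_act : allN (fun i => allN (fun x => cond (isLet 15 x)
    (allN (fun j => (row i).testBit j == (row (act M83K100.P x i)).testBit (act M83K100.P x j)) 100) true) 16) 100 = true := by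
  decide +kernel

end Cfsg.Agent.MRel.HS
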