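import Mathlib

set_option autoImplicit false

/-!
Packed matrices over `ZMod p`: a row vector is a natural number in base `B`, a matrix is the list of its rows
(owner: helper83).
-/

namespace Cfsg.Agent.MRel.Mat

open Finset

section

variable (B p : ℕ)

/-- digit -/
def dig (v j : ℕ) : ℕ := v / B ^ j % B

/-- number with given digits -/
def E (n : ℕ) (a : ℕ → ℕ) : ℕ := ∑ j ∈ range n, a j * B ^ j

/-- product of a vector with a matrix, without reduction -/
noncomputable def vm (rows : List ℕ) : ℕ → ℕ :=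
  @List.rec ℕ (fun _ => ℕ → ℕ) (fun _ => 0) (fun r _ ih v => Nat.add (Nat.mul (Nat.mod v B) r) (ih (Nat.div v B))) rows

/-- reduction of the digits -/
noncomputable def red (n : ℕ) : ℕ → ℕ :=
  @Nat.rec (fun _ => ℕ → ℕ) (fun _ => 0)
    (fun _ ih v => Nat.add (Nat.mod (Nat.mod v B) p) (Nat.mul B (ih (Nat.div v B)))) n

/-- one step -/
noncomputable def step (n : ℕ) (rows : List ℕ) (v : ℕ) : ℕ := red B p n (vm B rows v)

/-- action of a word -/
noncomputable def act (n : ℕ) (L : ℕ → List ℕ) (w : List ℕ) : ℕ → ℕ :=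
  @List.rec ℕ (fun _ => ℕ → ℕ) (fun v => v) (fun x _ ih v => ih (step B p n (L x) v)) w

/-- test that a matrix is reduced -/
noncomputable def okM (n : ℕ) (rows : List ℕ) : Bool :=
  Nat.beq rows.length n && rows.all fun r => Nat.beq (red B p n r) r

/-- test that the word acts as the scalar `c` -/
noncomputable def scalB (n : ℕ) (L : ℕ → List ℕ) (w : List ℕ) (c : ℕ) : Bool :=
  (List.range n).all fun i => Nat.beq (act B p n L w (Nat.pow B i)) (Nat.mul c (Nat.pow B i))

end

section

variable {B p : ℕ}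

theorem vm_nil (v : ℕ) : vm B [] v = 0 := rfl
theorem vm_cons (r : ℕ) (rows : List ℕ) (v : ℕ) : vm B (r :: rows) v = v % B * r + vm B rows (v / B) := rfl
theorem red_zero (v : ℕ) : red B p 0 v = 0 := rfl
theorem red_succ (n v : ℕ) : red B p (n + 1) v = v % B % p + B * red B p n (v / B) := rfl
theorem act_nil (n : ℕ) (L : ℕ → List ℕ) (v : ℕ) : act B p n L [] v = v := rfl
theorem act_cons (n : ℕ) (L : ℕ → List ℕ) (x : ℕ) (w : List ℕ) (v : ℕ) :
    act B p n L (x :: w) v = act B p n L w (step B p n (L x) v) := rfl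

theorem dig_zero (v : ℕ) : dig B v 0 = v % B := by simp [dig]
theorem dig_succ (v j : ℕ) : dig B v (j + 1) = dig B (v / B) j := by
  unfold dig
  rw [Nat.div_div_eq_div_mul, pow_succ']

theorem E_zero (a : ℕ → ℕ) : E B 0 a = 0 := by simp [E]
theorem E_succ (n : ℕ) (a : ℕ → ℕ) : E B (n + 1) a = a 0 + B * E B n (fun j => a (j + 1)) := by
  unfold E
  rw [sum_range_succ', pow_zero, mul_one, add_comm, mul_sum]
  congr 1
  refine sum_congr rfl fun j _ => ?_
  rw [pow_succ]; ring

theorem E_add (n : ℕ) (a b : ℕ → ℕ) : E B n (fun j => a j + b j) = E B n a + E B n b := by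
  unfold E
  rw [← sum_add_distrib]
  exact sum_congr rfl fun j _ => by ring

theorem E_mul (n c : ℕ) (a : ℕ → ℕ) : E B n (fun j => c * a j) = c * E B n a := by
  unfold E
  rw [mul_sum]
  exact sum_congr rfl fun j _ => by ring

theorem dig_E (hB : 0 < B) : ∀ (n : ℕ) (a : ℕ → ℕ), (∀ j < n, a j < B) → ∀ j < n, dig B (E B n a) j = a j
  | 0, _, _, j, hj => absurd hj (by omega)
  | n + 1, a, ha, 0, _ => by
    rw [E_succ, dig_zero, Nat.add_mul_mod_self_left, Nat.mod_eq_of_lt (ha 0 (by omega))]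
  | n + 1, a, ha, j + 1, hj => by
    rw [E_succ, dig_succ, Nat.add_mul_div_left _ _ hB, Nat.div_eq_of_lt (ha 0 (by omega)), zero_add]
    exact dig_E hB n _ (fun j hj => ha (j + 1) (by omega)) j (by omega)

theorem vm_eq (rows : List ℕ) : ∀ v, vm B rows v = ∑ i ∈ range rows.length, dig B v i * rows.getD i 0 := by
  induction rows with
  | nil => intro v; simp [vm_nil]
  | cons r rows ih =>
    intro v
    rw [vm_cons, ih, List.length_cons, sum_range_succ', dig_zero, add_comm]
    congr 1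
    exact sum_congr rfl fun i _ => by rw [dig_succ]; rfl

theorem red_eq : ∀ (n v : ℕ), red B p n v = E B n (fun j => dig B v j % p)
  | 0, v => by rw [red_zero, E_zero]
  | n + 1, v => by
    rw [red_succ, E_succ, dig_zero, red_eq n]
    congr 3
    funext j
    rw [dig_succ]

theorem sum_E (n m : ℕ) (c : ℕ → ℕ) (a : ℕ → ℕ → ℕ) :
    ∑ i ∈ range m, c i * E B n (a i) = E B n (fun j => ∑ i ∈ range m, c i * a i j) := by
  unfold E
  simp_rw [mul_sum, sum_mul]
  rw [sum_comm]
  refine sum_congr rfl fun j _ => sum_congr rfl fun i _ => by ring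

/-- the vector with given digits -/
def vec (B p n : ℕ) (v : ℕ) : Fin n → ZMod p := fun j => (dig B v j : ZMod p)

/-- the matrix with given rows -/
def mat (B p n : ℕ) (rows : List ℕ) : Matrix (Fin n) (Fin n) (ZMod p) := fun i j => (dig B (rows.getD i 0) j : ZMod p)

/-- reduced vectors -/
def Rd (B p n v : ℕ) : Prop := ∀ j < n, dig B v j < p

theorem rd_red (hp : 0 < p) (hpB : p ≤ B) (n v : ℕ) : Rd B p n (red B p n v) := by
  intro j hj
  rw [red_eq, dig_E (hp.trans_le hpB) n _ (fun j _ => (Nat.mod_lt _ hp).trans_le hpB) j hj]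
  exact Nat.mod_lt _ hp

theorem okM_spec (hp : 0 < p) (hpB : p ≤ B) {n : ℕ} {rows : List ℕ} (h : okM B p n rows = true) :
    rows.length = n ∧ ∀ i < n, Rd B p n (rows.getD i 0) ∧ rows.getD i 0 = E B n (dig B (rows.getD i 0)) := by
  simp only [okM, Bool.and_eq_true, List.all_eq_true] at h
  obtain ⟨h1, h2⟩ := h
  have h1 := Nat.eq_of_beq_eq_true h1
  refine ⟨h1, fun i hi => ?_⟩
  have hm : rows.getD i 0 ∈ rows := by
    rw [List.getD_eq_getElem _ _ (by omega)]
    exact List.getElem_mem _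
  have h3 := Nat.eq_of_beq_eq_true (h2 _ hm)
  have h4 : Rd B p n (rows.getD i 0) := by rw [← h3]; exact rd_red hp hpB n _
  refine ⟨h4, ?_⟩
  conv_lhs => rw [← h3, red_eq]
  unfold E
  refine sum_congr rfl fun j hj => ?_
  beta_reduce
  rw [Nat.mod_eq_of_lt (h4 j (mem_range.1 hj))]

theorem step_spec (hp : 0 < p) {n : ℕ} (hB : n * (p * p) ≤ B) (hpB : p ≤ B) {rows : List ℕ} (h : okM B p n rows = true) {v : ℕ}
    (hv : Rd B p n v) : Rd B p n (step B p n rows v) ∧
      vec B p n (step B p n rows v) = Matrix.vecMul (vec B p n v) (mat B p n rows) := by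
  obtain ⟨hl, hr⟩ := okM_spec hp hpB h
  refine ⟨rd_red hp hpB _ _, ?_⟩
  have hB0 : 0 < B := hp.trans_le hpB
  have h1 : vm B rows v = E B n (fun j => ∑ i ∈ range n, dig B v i * dig B (rows.getD i 0) j) := by
    rw [vm_eq, hl, ← sum_E]
    exact sum_congr rfl fun i hi => by rw [← (hr i (mem_range.1 hi)).2]
  have hb : ∀ j < n, ∑ i ∈ range n, dig B v i * dig B (rows.getD i 0) j < B := by
    intro j hj
    have h2 : ∀ i ∈ range n, dig B v i * dig B (rows.getD i 0) j < p * p := fun i hi =>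
      Nat.mul_lt_mul'' (hv i (mem_range.1 hi)) ((hr i (mem_range.1 hi)).1 j hj)
    have h3 : ∑ i ∈ range n, dig B v i * dig B (rows.getD i 0) j < ∑ _i ∈ range n, p * p :=
      sum_lt_sum_of_nonempty ⟨j, mem_range.2 hj⟩ h2
    rw [sum_const, card_range, smul_eq_mul] at h3
    exact h3.trans_le hB
  funext j
  have h4 : dig B (step B p n rows v) j = (∑ i ∈ range n, dig B v i * dig B (rows.getD i 0) j) % p := by
    unfold step
    rw [red_eq, dig_E hB0 n _ (fun j _ => (Nat.mod_lt _ hp).trans_le hpB) j j.2, h1, dig_E hB0 n _ hb j j.2]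
  show ((dig B (step B p n rows v) j : ℕ) : ZMod p) = _
  rw [h4, ZMod.natCast_mod, Nat.cast_sum, Matrix.vecMul, dotProduct, Finset.sum_range]
  exact sum_congr rfl fun i _ => by rw [Nat.cast_mul]; rfl

theorem act_spec (hp : 0 < p) {n : ℕ} (hB : n * (p * p) ≤ B) (hpB : p ≤ B) {L : ℕ → List ℕ}
    (h : ∀ x, okM B p n (L x) = true) (w : List ℕ) : ∀ {v : ℕ}, Rd B p n v → Rd B p n (act B p n L w v) ∧
      vec B p n (act B p n L w v) = Matrix.vecMul (vec B p n v) ((w.map fun x => mat B p n (L x)).prod) := by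
  induction w with
  | nil => intro v hv; exact ⟨hv, by rw [act_nil]; simp⟩
  | cons x w ih =>
    intro v hv
    obtain ⟨h1, h2⟩ := step_spec hp hB hpB (h x) hv
    obtain ⟨h3, h4⟩ := ih h1
    rw [act_cons]
    refine ⟨h3, ?_⟩
    rw [h4, h2, List.map_cons, List.prod_cons, Matrix.vecMul_vecMul]

theorem dig_mul_pow {c : ℕ} (hc : c < B) (i j : ℕ) : dig B (c * B ^ i) j = if j = i then c else 0 := by
  have hB : 0 < B := by omega
  unfold dig
  rcases lt_trichotomy j i with h | h | h
  · rw [if_neg (by omega)]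
    obtain ⟨k, rfl⟩ := Nat.exists_eq_add_of_lt h
    have : c * B ^ (j + k + 1) = B ^ j * (c * B ^ k * B) := by ring
    rw [this, Nat.mul_div_cancel_left _ (pow_pos hB j), Nat.mul_mod_left]
  · subst h
    rw [if_pos rfl, Nat.mul_div_cancel _ (pow_pos hB j), Nat.mod_eq_of_lt hc]
  · rw [if_neg (by omega)]
    obtain ⟨k, rfl⟩ := Nat.exists_eq_add_of_lt h
    have h1 : c * B ^ i < B ^ (i + k + 1) := by
      calc c * B ^ i < B * B ^ i := Nat.mul_lt_mul_of_pos_right hc (pow_pos hB i)
        _ = B ^ (i + 1) := by rw [pow_succ']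
        _ ≤ B ^ (i + k + 1) := Nat.pow_le_pow_right hB (by omega)
    rw [Nat.div_eq_of_lt h1, Nat.zero_mod]

theorem vec_mul_pow {c n : ℕ} (hc : c < B) (i : Fin n) : vec B p n (c * B ^ (i : ℕ)) = Pi.single i (c : ZMod p) := by
  funext j
  show ((dig B _ j : ℕ) : ZMod p) = _
  rw [dig_mul_pow hc]
  by_cases h : j = i
  · subst h; simp
  · rw [if_neg (fun h' => h (Fin.ext h')), Pi.single_eq_of_ne h, Nat.cast_zero]

/-- **Scalar words.** -/
theorem scalB_spec (hp : 1 < p) {n : ℕ} (hB : n * (p * p) ≤ B) (hpB : p ≤ B) {L : ℕ → List ℕ}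
    (h : ∀ x, okM B p n (L x) = true) {w : List ℕ} {c : ℕ} (hc : c < B) (hw : scalB B p n L w c = true) :
    (w.map fun x => mat B p n (L x)).prod = (c : ZMod p) • (1 : Matrix (Fin n) (Fin n) (ZMod p)) := by
  simp only [scalB, List.all_eq_true] at hw
  have key : ∀ i : Fin n, ((w.map fun x => mat B p n (L x)).prod) i = Pi.single i (c : ZMod p) := by
    intro i
    have h1 := Nat.eq_of_beq_eq_true (hw i (List.mem_range.2 i.2))
    have h1' : act B p n L w (B ^ (i : ℕ)) = c * B ^ (i : ℕ) := h1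
    have hone : B ^ (i : ℕ) = 1 * B ^ (i : ℕ) := (one_mul _).symm
    have h2 : Rd B p n (B ^ (i : ℕ)) := by
      intro j _
      rw [hone, dig_mul_pow (by omega)]
      split_ifs <;> omega
    have h3 := (act_spec (by omega) hB hpB h w h2).2
    rw [h1', vec_mul_pow hc, hone, vec_mul_pow (by omega), Nat.cast_one, Matrix.single_one_vecMul] at h3
    exact h3.symm
  ext i j
  rw [key, Matrix.smul_apply, Matrix.one_apply]
  by_cases h : i = j
  · subst h; simp
  · rw [if_neg h, smul_zero, Pi.single_eq_of_ne (Ne.symm h)]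

end

end Cfsg.Agent.MRel.Mat
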