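import Cfsg.Agent.MRel.StabH

/-! Certificate for the p-part of a Schur multiplier (generated; owner: helper83). -/

set_option autoImplicit false
set_option maxRecDepth 100000

namespace Cfsg.Agent.MRel.ONC3

open Cfsg.Agent.MRel.Stab Cfsg.Agent.MulX.Coh

/-- rules -/
def rules : List (List ℕ × List ℕ) := [([0, 0, 0], []),
  ([1, 0], [0, 1]),
  ([2, 0], [0, 2]),
  ([3, 0], [0, 3]),
  ([1, 1, 1], []),
  ([2, 1], [1, 2]),
  ([3, 1], [1, 3]),
  ([2, 2, 2], []),
  ([3, 2], [2, 3]),
  ([3, 3, 3], []),
  ([4, 0], [0, 1, 1, 2, 2, 3, 4]),
  ([4, 1], [1, 1, 3, 3, 4]),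
  ([4, 2], [0, 0, 1, 1, 2, 2, 4]),
  ([4, 3], [1, 1, 3, 4]),
  ([5, 0], [0, 0, 1, 1, 5]),
  ([5, 1], [0, 1, 2, 2, 5]),
  ([5, 2], [1, 2, 2, 5]),
  ([5, 3], [3, 3, 5])]

/-- paths -/
def paths0 : List (List ℕ × List Step) := [([5, 3, 3, 3], [(1, 9, false), (0, 9, true), (1, 17, true), (0, 9, true), (2, 17, true), (0, 17, true)]),
  ([5, 2, 1], [(1, 5, false), (0, 15, false), (4, 16, false), (0, 1, true), (1, 2, true), (2, 2, true), (3, 15, true), (0, 16, true)]),
  ([5, 2, 2, 2], [(1, 7, false), (0, 7, true), (0, 4, true), (2, 5, true), (3, 16, true), (2, 7, true), (1, 5, true), (2, 5, true), (3, 16, true), (0, 16, true)]),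
  ([5, 3, 2], [(1, 8, false), (0, 16, false), (3, 17, false), (2, 8, true), (3, 8, true), (1, 8, true), (2, 8, true), (0, 6, true), (1, 6, true), (2, 16, true), (0, 17, true)]),
  ([4, 3, 3, 3], [(1, 9, false), (0, 9, true), (0, 4, true), (2, 6, true), (3, 6, true), (1, 6, true), (2, 6, true), (3, 13, true), (0, 6, true), (0, 4, true), (2, 6, true), (3, 13, true), (0, 13, true)]),
  ([5, 3, 1], [(1, 6, false), (0, 15, false), (4, 17, false), (3, 8, true), (4, 8, true), (2, 8, true), (3, 8, true), (1, 6, true), (2, 6, true), (0, 3, true), (1, 3, true), (2, 15, true), (0, 17, true)]),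
  ([5, 0, 0, 0], [(1, 0, false), (0, 4, true), (0, 0, true), (2, 1, true), (1, 1, true), (2, 14, true), (1, 4, true), (0, 1, true), (1, 1, true), (0, 0, true), (2, 1, true), (3, 1, true), (4, 14, true), (0, 14, true)]),
  ([5, 2, 0], [(1, 2, false), (0, 14, false), (4, 16, false), (4, 5, true), (5, 5, true), (3, 5, true), (4, 5, true), (1, 1, true), (2, 2, true), (3, 2, true), (0, 1, true), (1, 2, true), (2, 2, true), (3, 14, true), (0, 16, true)]),
  ([4, 3, 0], [(1, 3, false), (0, 10, false), (6, 13, false), (5, 6, false), (4, 5, false), (3, 5, false), (1, 4, false), (3, 6, false), (2, 5, false), (1, 5, false), (3, 8, true), (2, 8, true), (1, 6, true), (1, 4, true), (3, 6, true), (0, 1, true), (1, 1, true), (2, 3, true), (3, 10, true), (0, 13, true)])]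

/-- rows -/
def rows0 : List ℕ := [0x30000000000000000000000000000028000000000000000000000000000000000,
  0x3000600000000000000000000000000000000000008000000000100010000,
  0x6000000000000000000000000000000000a00000030002000000000000000,
  0x18003000000000000000000000000000009000000100000000000000000000000,
  0x30000000000000018000000000300000004000000000000000,
  0x18000000600000000000000000000000008000000140000000000800000000000,
  0x180000000000000000000000000000000000004000000000060005,
  0x30000000c0000000000000000000000000000000040000000000240020000,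
  0x180000000000c0000004000000180020003000600000020000]

/-- rows -/
def rows : List ℕ := rows0

/-- the certificate -/
def D : Cert where
  b := 15
  m := 3
  n := 18
  ns := 10
  rules := rules
  M := 60
  rows := rows
  gauge := [0,
    0,
    0,
    0,
    0,
    0]
  prm := [0x8000]
  ords := [3]
  certs := [(0x2010000, 0),
    (0, 1),
    (0x10000010, 0),
    (0x110101000, 1),
    (0x10000, 0),
    (0x20000000, 1),
    (0x1000, 0),
    (0x20200, 0),
    (0x110000000, 1),
    (2, 0)]
  ocerts := [0]

theorem path0 : Rows D.b D.m D.n D.M D.rules rows0 := rowsB_spec (ps := paths0) (by decide +kernel)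

theorem tgt_ok : (List.range D.ns).all D.tgtB = true := by decide +kernel

theorem good : D.Good where
  m1 := by decide
  nsn := by decide +kernel
  rows := path0
  gau := by decide +kernel
  prm := by decide +kernel
  bnd := by decide +kernel
  tgt := fun r hr => (List.all_eq_true.1 tgt_ok) r (List.mem_range.2 hr)
  ord := fun j hj => (List.all_eq_true.1 (show (List.range D.prm.length).all D.ordB = true by decide +kernel)) j (List.mem_range.2 hj)

theorem pc_ok : pcB 3 4 D.ns D.rules = true := by decide +kernel

/-- paths -/
def opaths0 : List (List ℕ × List Step) := [([3, 3, 3, 2], [(0, 9, false), (1, 9, true), (0, 8, true), (1, 8, true), (2, 8, true)]),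
  ([5, 2, 0], [(1, 2, false), (0, 14, false), (4, 16, false), (4, 5, true), (5, 5, true), (3, 5, true), (4, 5, true), (1, 1, true), (2, 2, true), (3, 2, true), (0, 1, true), (1, 2, true), (2, 2, true), (3, 14, true), (0, 16, true)]),
  ([4, 3, 0], [(1, 3, false), (0, 10, false), (6, 13, false), (5, 6, false), (4, 5, false), (3, 5, false), (1, 4, false), (3, 6, false), (2, 5, false), (1, 5, false), (3, 8, true), (2, 8, true), (1, 6, true), (1, 4, true), (3, 6, true), (0, 1, true), (1, 1, true), (2, 3, true), (3, 10, true), (0, 13, true)])]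

/-- rows -/
def orows0 : List ℕ := [0x48018000000000000000000000000000000,
  0x9000000240000000000000000000000000000000100000000000840080000,
  0x48000000000240000010000000480020009001200000080000]

theorem opath0 : Rows D.b (3 * 3) D.n 180 D.rules orows0 := rowsB_spec (ps := opaths0) (by decide +kernel)
/-- rows -/
def orows : List ℕ := orows0

/-- certificates for the orders -/
def ocs : List ℕ := [0x665]

theorem oord : (List.range D.prm.length).all (fun j => congB D.b (3 * 3) D.n (Nat.mul 3 (D.prm.getD j 0)) (comb orows (ocs.getD j 0))) = true := by decide +kernel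

theorem ogood : OGood D 3 180 orows ocs where
  hrows := opath0
  bnd := by decide +kernel
  bnd2 := by decide +kernel
  ord := fun j hj => (List.all_eq_true.1 oord) j (List.mem_range.2 hj)

end Cfsg.Agent.MRel.ONC3
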