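import Cfsg.Agent.MRel.Step
import Cfsg.Agent.MRel.Mat
import Cfsg.Agent.SchurMult.Basic

set_option autoImplicit false

/-!
Perfect central extensions from projective representations (owner: helper83).
-/

namespace Cfsg.Agent.MRel

open Cfsg.Agent.CosetEnum Subgroup Mult

theorem rep_prod' {G : Type*} [Group G] (g : ℕ → G) (u : List ℕ) (n : ℕ) :
    ((expand (u, n)).map g).prod = ((u.map g).prod) ^ n := by
  unfold expand
  induction n with
  | zero => simp
  | succ n ih =>
    show (((List.replicate (n + 1) u).flatten).map g).prod = _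
    rw [List.replicate_succ, List.flatten_cons, List.map_append, List.prod_append, pow_succ']
    congr 1

/-- **Projective representations of a simple group given by generators and relations.** -/
theorem exists_proj {G : Type} [Group G] [IsSimpleGroup G] {g : ℕ → G} {ng : ℕ} {l : List (ℕ × ℕ)}
    {RL : List (List ℕ × ℕ)} (U : Univ g ng l RL) {R : Type} [Group R] {M : ℕ → R}
    (hinv : ∀ x, M (ivL l x) * M x ∈ center R) (hone : ∀ x, isLet ng x = false → M x = 1)
    (hrel : ∀ p ∈ RL, ((p.1.map M).prod) ^ p.2 ∈ center R) (hne : ∃ x, M x ∉ center R) :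
    ∃ σ : Cl M ng →* G, CE σ ∧ (∀ y : Cl M ng, σ y = 1 ↔ (y : R) ∈ center R) ∧
      ∀ x (hx : isLet ng x = true), σ ⟨M x, mem_Cl M hx⟩ = g x := by
  let π : R →* R ⧸ center R := QuotientGroup.mk' (center R)
  have hπ : ∀ y : R, π y = 1 ↔ y ∈ center R := fun y => QuotientGroup.eq_one_iff y
  have hgood : Good (fun x => π (M x)) ng l RL := by
    refine ⟨fun x => ?_, fun x hx => ?_, fun p hp => ?_⟩
    · rw [eq_inv_iff_mul_eq_one, ← map_mul, hπ]; exact hinv x
    · beta_reduce; rw [hone x hx, map_one]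
    · have : (p.1.map fun x => π (M x)).prod = π ((p.1.map M).prod) := by
        rw [map_list_prod, List.map_map]; rfl
      rw [this, ← map_pow, hπ]; exact hrel p hp
  obtain ⟨φ, hφ⟩ := U.univ _ _ hgood
  have hφi : Function.Injective φ := by
    rw [← MonoidHom.ker_eq_bot_iff]
    rcases (inferInstance : φ.ker.Normal).eq_bot_or_eq_top with h | h
    · exact h
    · exfalso
      obtain ⟨x, hx⟩ := hne
      apply hx
      rw [← hπ, ← hφ]
      have : g x ∈ φ.ker := by rw [h]; exact mem_top _
      exact this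
  have hmem : ∀ y : Cl M ng, π (y : R) ∈ φ.range := by
    rintro ⟨y, hy⟩
    have hle : Cl M ng ≤ φ.range.comap π := by
      unfold Cl
      rw [closure_le]
      rintro _ ⟨x, _, rfl⟩
      exact ⟨g x, hφ x⟩
    exact hle hy
  let τ : Cl M ng →* φ.range := (π.comp (Cl M ng).subtype).codRestrict φ.range hmem
  let e : G ≃* φ.range := MonoidHom.ofInjective hφi
  let σ : Cl M ng →* G := e.symm.toMonoidHom.comp τ
  have hσ : ∀ y : Cl M ng, φ (σ y) = π (y : R) := by
    intro y
    have : e (σ y) = τ y := e.apply_symm_apply _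
    exact congrArg Subtype.val this
  have hσ1 : ∀ y : Cl M ng, σ y = 1 ↔ (y : R) ∈ center R := by
    intro y
    rw [← hπ, ← hσ]
    constructor
    · intro h; rw [h, map_one]
    · intro h; exact hφi (h.trans (map_one φ).symm)
  have hσ2 : ∀ x (hx : isLet ng x = true), σ ⟨M x, mem_Cl M hx⟩ = g x := by
    intro x hx
    apply hφi
    rw [hσ, hφ]
  refine ⟨σ, ⟨?_, ?_⟩, hσ1, hσ2⟩
  · rw [← MonoidHom.range_eq_top, eq_top_iff, ← U.top]
    unfold Cl
    rw [closure_le]
    rintro _ ⟨x, hx, rfl⟩
    exact ⟨_, hσ2 x hx⟩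
  · intro y hy
    have h := (hσ1 y).1 hy
    rw [mem_center_iff]
    intro z
    exact Subtype.ext (mem_center_iff.1 h z)

/-- a group generated by letters which are trivial in the abelianization is perfect -/
theorem perf_of_letters {R : Type} [Group R] {M : ℕ → R} {ng : ℕ}
    (h : ∀ x (hx : isLet ng x = true), Abelianization.of (⟨M x, mem_Cl M hx⟩ : Cl M ng) = 1) :
    commutator ↥(Cl M ng) = ⊤ := by
  have h1 : ∀ y : Cl M ng, Abelianization.of y = 1 := by
    rintro ⟨y, hy⟩
    unfold Cl at hy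
    induction hy using closure_induction with
    | mem y hy =>
      obtain ⟨x, hx, rfl⟩ := hy
      exact h x hx
    | one => exact map_one _
    | mul a b ha hb iha ihb =>
      have e : (⟨a * b, mul_mem ha hb⟩ : Cl M ng) = ⟨a, ha⟩ * ⟨b, hb⟩ := rfl
      rw [e, map_mul]
      exact (congrArg₂ (· * ·) iha ihb).trans (one_mul 1)
    | inv a ha iha =>
      have e : (⟨a⁻¹, inv_mem ha⟩ : Cl M ng) = ⟨a, ha⟩⁻¹ := rfl
      rw [e, map_inv]
      exact (congrArg _ iha).trans inv_one
  rw [eq_top_iff]
  intro y _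
  exact (QuotientGroup.eq_one_iff y).1 (h1 y)

/-- the family of the letters in the abelianization -/
noncomputable def abl {R : Type} [Group R] (M : ℕ → R) (ng : ℕ) (x : ℕ) : Abelianization ↥(Cl M ng) :=
  if h : isLet ng x = true then Abelianization.of (⟨M x, mem_Cl M h⟩ : Cl M ng) else 1

theorem abl_rel {R : Type} [Group R] {M : ℕ → R} {ng : ℕ} {w : List ℕ} (hw : wOK ng w = true) (h : (w.map M).prod = 1) :
    (w.map (abl M ng)).prod = 1 := by
  have key : ∀ (w : List ℕ) (hw : wOK ng w = true),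
      (w.map (abl M ng)).prod = Abelianization.of (⟨(w.map M).prod, word_mem_Cl M hw⟩ : Cl M ng) := by
    intro w
    induction w with
    | nil => intro _; exact (map_one _).symm
    | cons x w ih =>
      intro hw
      have hw' := hw
      simp only [wOK, List.all_cons, Bool.and_eq_true] at hw'
      have h2 : wOK ng w = true := hw'.2
      rw [List.map_cons, List.prod_cons, ih h2]
      unfold abl
      rw [dif_pos hw'.1, ← map_mul]
      rfl
  rw [key w hw]
  have : (⟨(w.map M).prod, word_mem_Cl M hw⟩ : Cl M ng) = 1 := Subtype.ext h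
  rw [this, map_one]

theorem perf_of_abl {R : Type} [Group R] {M : ℕ → R} {ng : ℕ} (h : ∀ x, isLet ng x = true → abl M ng x = 1) :
    commutator ↥(Cl M ng) = ⊤ := by
  apply perf_of_letters
  intro x hx
  have := h x hx
  unfold abl at this
  rwa [dif_pos hx] at this

/-- **Cyclic multipliers.** -/
theorem cyclic_of {G : Type} [Group G] (hG : commutator G = ⊤) {n : ℕ} (hn : 0 < n) (mb : MB G n) {Γ : Type} [Group Γ]
    [Finite Γ] {σ : Γ →* G} (P : PCE σ) {z : Γ} (hz : σ z = 1) (ho : n ∣ orderOf z) : HasCyclicSchurMultiplier G n := by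
  have h1 : orderOf (⟨z, hz⟩ : σ.ker) = orderOf z := Subgroup.orderOf_mk _ _
  have h2 : Nat.card σ.ker ∣ n := mb Γ σ P
  have h3 : orderOf z ∣ Nat.card σ.ker := by rw [← h1]; exact orderOf_dvd_natCard _
  have h4 : Nat.card σ.ker = n := Nat.dvd_antisymm h2 (ho.trans h3)
  have h5 : orderOf (⟨z, hz⟩ : σ.ker) = Nat.card σ.ker := by
    rw [h1, h4]; exact Nat.dvd_antisymm (h4 ▸ h3) ho
  have hcyc : IsCyclic σ.ker := isCyclic_of_orderOf_eq_card _ h5
  have hne : NeZero n := ⟨by omega⟩
  have hcard : Nat.card (Multiplicative (ZMod n)) = n := by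
    rw [Nat.card_congr Multiplicative.toAdd, Nat.card_zmod]
  have hfin : Finite (Multiplicative (ZMod n)) := Finite.of_equiv (ZMod n) Multiplicative.ofAdd
  apply Cfsg.Agent.SchurMult.hasSchurMultiplier_of_card_le
  · exact ⟨Γ, inferInstance, inferInstance, σ, P.stem, ⟨mulEquivOfCyclicCardEq (by rw [h4, hcard])⟩⟩
  · intro Γ' _ _ τ hτ
    rw [hcard]
    exact Nat.le_of_dvd hn (mb.univ (PCE.of_stem hG hτ))

end Cfsg.Agent.MRel

namespace Cfsg.Agent.MRel

open Subgroup Mult

/-- bound from the Schur multiplier -/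
theorem MB.of_schur {G : Type} [Group G] {A : Type*} [CommGroup A] (h : HasSchurMultiplier G A) : MB G (Nat.card A) := by
  intro Γ _ _ σ P
  have hA := Cfsg.Agent.SchurMult.hasSchurMultiplier_finite h
  obtain ⟨π, hπ⟩ := h.2 Γ σ P.stem
  have h1 := π.ker.card_mul_index
  rw [Subgroup.index_ker, MonoidHom.range_eq_top.2 hπ, Nat.card_congr Subgroup.topEquiv.toEquiv] at h1
  exact ⟨_, by rw [← h1, mul_comm]⟩

theorem MB.of_cyclic {G : Type} [Group G] {n : ℕ} (h : HasCyclicSchurMultiplier G n) : MB G n := by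
  have := MB.of_schur h
  rwa [Nat.card_congr Multiplicative.toAdd, Nat.card_zmod] at this

end Cfsg.Agent.MRel
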