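import Cfsg.Agent.MRel.Cen

set_option autoImplicit false

/-!
Relative covering presentations: the letters of the subgroup are lifted by a homomorphism, the other relators become central
(owner: helper83).
-/

namespace Cfsg.Agent.MRel

open Cfsg.Agent.CosetEnum Subgroup Mult

universe u v

section

variable {G : Type v} [Group G]

theorem inv_sq {x : G} (h : x * x = 1) : x⁻¹ = x := inv_eq_of_mul_eq_one_right h

/-- a central power of a product of two involutions has order two -/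
theorem pow_pair_sq {x y : G} (hx : x * x = 1) (hy : y * y = 1) (m : ℕ) (hc : ∀ z, (x * y) ^ m * z = z * (x * y) ^ m) :
    (x * y) ^ m * (x * y) ^ m = 1 := by
  have h1 : x * (x * y) ^ m * x⁻¹ = ((x * y) ^ m)⁻¹ := by
    rw [← conj_pow, ← inv_pow, mul_inv_rev, inv_sq hx, inv_sq hy, ← mul_assoc x x y, hx, one_mul]
  rw [← hc, mul_inv_cancel_right] at h1
  nth_rewrite 1 [h1]
  exact inv_mul_cancel _

/-- test of the relators `[x, z]` for the central letters `z` -/
def cenRel (zs : List ℕ) (l : List (ℕ × ℕ)) (p : List ℕ × ℕ) : Bool :=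
  match p.1 with
  | [x, z, x', z'] => zs.contains z && x' == ivL l x && z' == ivL l z
  | _ => false

theorem cenRel_prod {l : List (ℕ × ℕ)} {f : ℕ → G} (hi : ∀ x, f (ivL l x) = (f x)⁻¹) {zs : List ℕ}
    (hz : ∀ z ∈ zs, ∀ y, f z * y = y * f z) {p : List ℕ × ℕ} (h : cenRel zs l p = true) : ((p.1.map f).prod) ^ p.2 = 1 := by
  obtain ⟨u, m⟩ := p
  unfold cenRel at h
  match u, h with
  | [x, z, x', z'], h =>
    simp only [Bool.and_eq_true, beq_iff_eq, List.contains_iff_mem] at h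
    obtain ⟨⟨h1, rfl⟩, rfl⟩ := h
    have h2 := hz z h1 (f x)
    simp only [List.map_cons, List.map_nil, List.prod_cons, List.prod_nil, mul_one, hi]
    have : f x * (f z * ((f x)⁻¹ * (f z)⁻¹)) = f x * f z * (f x)⁻¹ * (f z)⁻¹ := by group
    rw [this, ← h2, mul_inv_cancel_right, mul_inv_cancel, one_pow]

end

section

variable {Γ : Type u} {G : Type v} [Group Γ] [Group G] {σ : Γ →* G}

theorem lift_word {q : ℕ → G} {k : ℕ} (s : Cl q k →* Γ) {f : ℕ → Γ}
    (hf : ∀ x (hx : isLet k x = true), f x = s ⟨q x, mem_Cl q hx⟩) {w : List ℕ} (hw : wOK k w = true) :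
    (w.map f).prod = s ⟨(w.map q).prod, word_mem_Cl q hw⟩ := by
  induction w with
  | nil => exact (map_one s).symm
  | cons x w ih =>
    have hw' := hw
    simp only [wOK, List.all_cons, Bool.and_eq_true] at hw'
    have h2 : wOK k w = true := hw'.2
    rw [List.map_cons, List.prod_cons, ih h2, hf x hw'.1, ← map_mul]
    rfl

/-- the relators of the covering presentation -/
theorem good_step {q : ℕ → G} {nq k : ℕ} {lq : List (ℕ × ℕ)} {RLq : List (List ℕ × ℕ)} (gq : Good q nq lq RLq)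
    (s : Cl q k →* Γ) {f : ℕ → Γ} (hf : ∀ x (hx : isLet k x = true), f x = s ⟨q x, mem_Cl q hx⟩)
    {ng : ℕ} {l : List (ℕ × ℕ)} {RL : List (List ℕ × ℕ)} (hi : ∀ x, f (ivL l x) = (f x)⁻¹)
    (h1 : ∀ x, isLet ng x = false → f x = 1) (zs : List ℕ) (hz : ∀ z ∈ zs, ∀ y, f z * y = y * f z)
    (rest : List (List ℕ × ℕ)) (hr : ∀ p ∈ rest, ((p.1.map f).prod) ^ p.2 = 1)
    (hsplit : (RL.all fun p => cenRel zs l p || (RLq.contains p && wOK k p.1) || rest.contains p) = true) :
    Good f ng l RL where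
  inv := hi
  one := h1
  rel := by
    intro p hp
    simp only [List.all_eq_true, Bool.or_eq_true, Bool.and_eq_true, List.contains_iff_mem] at hsplit
    rcases hsplit p hp with (h | ⟨h, h'⟩) | h
    · exact cenRel_prod hi hz h
    · have h2 := gq.rel p h
      rw [lift_word s hf h', ← map_pow]
      have h3 : (⟨(p.1.map q).prod, word_mem_Cl q h'⟩ : Cl q k) ^ p.2 = 1 := Subtype.ext h2
      rw [h3, map_one]
    · exact hr p h

theorem lift_sq {q : ℕ → G} {k : ℕ} (s : Cl q k →* Γ) {x : ℕ} (hx : isLet k x = true) (h : q x * q x = 1) :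
    s ⟨q x, mem_Cl q hx⟩ * s ⟨q x, mem_Cl q hx⟩ = 1 := by
  rw [← map_mul]
  have h3 : (⟨q x, mem_Cl q hx⟩ : Cl q k) * ⟨q x, mem_Cl q hx⟩ = 1 := Subtype.ext h
  rw [h3, map_one]

theorem top_of_lift (P : PCE σ) {q : ℕ → G} {nq ng : ℕ} (hq : Cl q nq = ⊤) {f : ℕ → Γ}
    (hf : ∀ x, isLet nq x = true → σ (f x) = q x) (hn : nq ≤ ng) : Cl f ng = ⊤ := by
  apply P.top_of_map
  rw [eq_top_iff, ← hq]
  unfold Cl
  rw [Subgroup.closure_le]
  rintro _ ⟨x, hx, rfl⟩
  refine ⟨f x, Subgroup.subset_closure ⟨x, ?_, rfl⟩, hf x hx⟩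
  have h1 := isLet_iff.1 hx
  exact isLet_iff.2 ⟨h1.1, h1.2.trans hn⟩

theorem bd_of_lift {q : ℕ → G} {k : ℕ} (s : Cl q k →* Γ) {f : ℕ → Γ}
    (hf : ∀ x (hx : isLet k x = true), f x = s ⟨q x, mem_Cl q hx⟩) [Finite (Cl q k)] {N : ℕ} (hN : Nat.card (Cl q k) = N) :
    Bd (Cl f k) N := by
  have hle : Cl f k ≤ s.range := by
    unfold Cl
    rw [Subgroup.closure_le]
    rintro _ ⟨x, hx, rfl⟩
    exact ⟨_, (hf x hx).symm⟩
  have hfin : Finite s.range := Finite.of_surjective s.rangeRestrict s.rangeRestrict_surjective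
  refine ⟨Finite.of_injective _ (Subgroup.inclusion_injective hle), ?_⟩
  rw [← hN]
  exact (Nat.card_le_card_of_injective _ (Subgroup.inclusion_injective hle)).trans
    (Nat.card_le_card_of_surjective _ s.rangeRestrict_surjective)

theorem card_ker_eq (P : PCE σ) : Nat.card Γ = Nat.card G * Nat.card σ.ker := by
  rw [Subgroup.card_eq_card_quotient_mul_card_subgroup σ.ker,
    Nat.card_congr (QuotientGroup.quotientKerEquivOfSurjective σ P.ce.surj).toEquiv]

theorem card_ker_le (P : PCE σ) {N n m : ℕ} (hb : Bd (⊤ : Subgroup Γ) N) (hn : Nat.card G = n) (hn0 : 0 < n)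
    (h : N < n * (m + 1)) : Nat.card σ.ker ≤ m := by
  have h1 := hb.2
  rw [Subgroup.card_top, card_ker_eq P, hn] at h1
  have h2 : n * Nat.card σ.ker < n * (m + 1) := h1.trans_lt h
  have := Nat.lt_of_mul_lt_mul_left h2
  omega

end

end Cfsg.Agent.MRel
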