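import Cfsg.Agent.MRel.StabH

/-! Certificate for the p-part of a Schur multiplier (generated; owner: helper83). -/

set_option autoImplicit false
set_option maxRecDepth 100000

namespace Cfsg.Agent.MRel.SzC2

open Cfsg.Agent.MRel.Stab Cfsg.Agent.MulX.Coh

/-- rules -/
def rules : List (List ℕ × List ℕ) := [([0, 0], [3]),
  ([1, 0], [0, 1, 5]),
  ([2, 0], [0, 2, 4, 5]),
  ([3, 0], [0, 3]),
  ([4, 0], [0, 4]),
  ([5, 0], [0, 5]),
  ([1, 1], [3, 4, 5]),
  ([2, 1], [1, 2, 3]),
  ([3, 1], [1, 3]),
  ([4, 1], [1, 4]),
  ([5, 1], [1, 5]),
  ([2, 2], [3, 4]),
  ([3, 2], [2, 3]),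
  ([4, 2], [2, 4]),
  ([5, 2], [2, 5]),
  ([3, 3], []),
  ([4, 3], [3, 4]),
  ([5, 3], [3, 5]),
  ([4, 4], []),
  ([5, 4], [4, 5]),
  ([5, 5], []),
  ([6, 0], [1, 2, 3, 5, 6]),
  ([6, 1], [0, 1, 2, 3, 4, 6]),
  ([6, 2], [0, 2, 5, 6]),
  ([6, 3], [3, 5, 6]),
  ([6, 4], [3, 6]),
  ([6, 5], [4, 6])]

/-- paths -/
def paths0 : List (List ℕ × List Step) := [([0, 0, 0], [(0, 0, false), (0, 3, false), (1, 0, true)]),
  ([2, 2, 2], [(0, 11, false), (1, 13, false), (0, 12, false), (1, 11, true)]),
  ([6, 4, 4], [(1, 18, false), (0, 15, true), (1, 25, true), (0, 25, true)]),
  ([6, 5, 5], [(1, 20, false), (0, 18, true), (1, 26, true), (0, 26, true)]),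
  ([1, 1, 1], [(0, 6, false), (2, 10, false), (1, 9, false), (0, 8, false), (1, 6, true)]),
  ([3, 2, 2], [(0, 12, false), (1, 12, false), (0, 11, false), (1, 16, false), (1, 11, true)]),
  ([5, 0, 0], [(0, 5, false), (1, 5, false), (0, 0, false), (0, 17, true), (1, 0, true)]),
  ([4, 1, 1], [(0, 9, false), (1, 9, false), (0, 6, false), (2, 19, false), (0, 16, true), (1, 6, true)]),
  ([6, 3, 3], [(1, 15, false), (0, 20, true), (0, 15, true), (1, 17, true), (2, 24, true), (0, 24, true)]),
  ([1, 0, 0], [(0, 1, false), (2, 5, false), (1, 1, false), (0, 0, false), (0, 8, false), (2, 20, false), (1, 0, true)]),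
  ([6, 4, 0], [(1, 4, false), (0, 21, false), (4, 25, false), (3, 17, false), (1, 12, true), (0, 8, true), (1, 21, true), (0, 25, true)]),
  ([6, 5, 2], [(1, 14, false), (0, 23, false), (3, 26, false), (2, 19, false), (1, 13, true), (0, 4, true), (1, 23, true), (0, 26, true)]),
  ([1, 1, 0], [(0, 6, false), (2, 5, false), (1, 4, false), (0, 3, false), (3, 20, true), (1, 6, true), (2, 10, true), (0, 1, true), (1, 1, true)]),
  ([6, 2, 2], [(1, 11, false), (0, 24, false), (2, 25, false), (1, 17, false), (0, 15, false), (0, 18, true), (0, 15, true), (1, 16, true), (0, 11, true), (1, 12, true), (2, 13, true), (3, 20, true), (0, 12, true), (0, 0, true), (1, 2, true), (2, 5, true), (3, 23, true), (0, 23, true)]),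
  ([6, 0, 0], [(1, 0, false), (0, 24, false), (0, 18, true), (0, 15, true), (1, 16, true), (0, 11, true), (1, 12, true), (2, 13, true), (3, 20, true), (1, 16, true), (2, 17, true), (1, 15, true), (2, 16, true), (3, 17, true), (0, 12, true), (1, 13, true), (2, 14, true), (0, 6, true), (1, 7, true), (2, 8, true), (3, 10, true), (4, 21, true), (0, 21, true)]),
  ([6, 2, 0], [(1, 2, false), (0, 21, false), (4, 23, false), (3, 5, false), (2, 3, false), (1, 2, false), (0, 1, false), (2, 14, false), (3, 19, false), (4, 20, false), (3, 16, false), (5, 14, false), (4, 13, false), (3, 12, false), (2, 11, false), (3, 16, false), (2, 15, false), (2, 18, false), (2, 20, false), (2, 25, false), (3, 26, false), (4, 20, true), (2, 16, true), (3, 17, true), (2, 15, true), (3, 16, true), (2, 11, true), (3, 12, true), (4, 14, true), (1, 7, true), (2, 10, true), (3, 21, true), (0, 23, true)]),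
  ([6, 1, 1], [(1, 6, false), (0, 24, false), (2, 25, false), (1, 17, false), (0, 15, false), (1, 26, false), (0, 15, true), (1, 17, true), (1, 18, true), (0, 11, true), (1, 13, true), (2, 14, true), (1, 15, true), (2, 16, true), (3, 17, true), (0, 12, true), (1, 13, true), (2, 14, true), (0, 6, true), (1, 7, true), (2, 18, true), (2, 15, true), (3, 16, true), (4, 20, true), (3, 19, true), (1, 12, true), (2, 14, true), (0, 8, true), (0, 0, true), (1, 1, true), (2, 2, true), (3, 3, true), (4, 4, true), (5, 22, true), (0, 22, true)]),
  ([6, 2, 1], [(1, 7, false), (0, 22, false), (5, 23, false), (4, 4, false), (3, 3, false), (2, 2, false), (1, 1, false), (0, 0, false), (0, 8, false), (2, 14, false), (1, 12, false), (3, 19, false), (4, 20, false), (3, 16, false), (2, 15, false), (2, 18, false), (1, 11, false), (4, 24, false), (3, 17, false), (2, 16, false), (1, 15, false), (2, 20, false), (1, 15, true), (2, 18, true), (1, 11, true), (2, 13, true), (2, 15, true), (0, 7, true), (1, 8, true), (2, 9, true), (3, 20, true), (0, 12, true), (0, 0, true), (1, 2, true), (2, 5, true), (3, 22, true), (0, 23, true)]),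
  ([6, 1, 0], [(1, 1, false), (0, 21, false), (4, 22, false), (3, 5, false), (2, 3, false), (1, 2, false), (0, 1, false), (2, 14, false), (3, 19, false), (4, 20, false), (3, 16, false), (5, 10, false), (4, 9, false), (3, 8, false), (2, 7, false), (1, 6, false), (3, 14, false), (2, 13, false), (1, 12, false), (4, 17, false), (3, 16, false), (2, 15, false), (3, 17, false), (2, 16, false), (4, 19, false), (3, 18, false), (3, 20, false), (2, 12, false), (1, 11, false), (2, 16, false), (1, 15, false), (1, 16, false), (2, 18, false), (2, 26, false), (3, 20, true), (1, 16, true), (2, 17, true), (1, 15, true), (2, 16, true), (1, 11, true), (2, 12, true), (3, 14, true), (3, 18, true), (4, 19, true), (2, 16, true), (3, 17, true), (2, 15, true), (3, 16, true), (4, 17, true), (1, 12, true), (2, 13, true), (3, 14, true), (1, 6, true), (2, 7, true), (3, 8, true), (4, 9, true), (5, 21, true), (0, 22, true)])]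

/-- rows -/
def rows0 : List ℕ := [0x8000000000002,
  0x20001000100000000000000000000000000000000000000000000000,
  0x40000000000000000000000000000040000000000008000000000000000000000000000000000000000000000000000000000000000,
  0x800000000000000000000000010000000040000000000000000000000000000000000000000000000000000000000000000000000000000,
  0x4000200010000000080000000000000000000000000,
  0x100000000000000002000100000000000000000000000000000000000000000000000,
  0x2000000000000000000000000000000000000000000000000004000000000000000000002,
  0x800000000000100000000000000000000000000000400000000000080000000000000000000000000,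
  0x2000000000000000010000000000002000000010000000000000000000000000000000000000000000000000000000000000000,
  0x10000000000000000000000000000000000000000000000000010000000000002000000000000000040002,
  0x40000000000000000400000000000000002000000000000000000001000000000000000010000000000000000100000000000000000,
  0x800000000000100000000000000000800000000000000000000400020000000000000000000000000000000000000100000000000000000,
  0x10000000000000000000000000000000000000000004000000000000000080002000100008000000040000,
  0x20001000100000000000010000000040002000100010000000020002000100000000000000000000000002000000000000400000001,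
  0x1000000000000400010000000040004000300010000400040002000080004000000010000800040000000000000000000000001,
  0x400020000000100000000400030000800040002000400010000c00020002000100004000000000000800000002000000008000800020000,
  0x400020001000000008000000010000800080006000200020000c00040002000080000000000010000800080000000100008000400020001,
  0x1000100008000000030000800080002000200020000400020002000100000000200020001000000002000100008000800020002,
  0x4000000000000000080004000300018000c000a000900020001000040004000100004000400020001000080002000000008000400040000]

/-- rows -/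
def rows : List ℕ := rows0

/-- the certificate -/
def D : Cert where
  b := 17
  m := 2
  n := 27
  ns := 21
  rules := rules
  M := 116
  rows := rows
  gauge := [0,
    0,
    0,
    1,
    0x400020000,
    0x20000,
    0]
  prm := [0x100000000000000000,
    0x2000000000000000000000]
  ords := [2, 2]
  certs := [(0, 0),
    (0, 0),
    (0, 0),
    (1, 0),
    (0, 1),
    (0, 0x10),
    (0x1110111110100111010, 1),
    (0x1101011010011111010, 0x11),
    (0x1101000000, 0x10),
    (0x1001000010001, 1),
    (0x1000101000001, 0x11),
    (0x111000111101011011, 0x10),
    (0x11100000000, 0x11),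
    (0x11100000010, 0x11),
    (0x111110100010, 0x10),
    (0x101001100, 0),
    (0x100000, 0),
    (0x1000000, 0),
    (0x101001000, 0),
    (0x10100000, 0),
    (0x101000000, 0)]
  ocerts := [0, 0]

theorem path0 : Rows D.b D.m D.n D.M D.rules rows0 := rowsB_spec (ps := paths0) (by decide +kernel)

theorem tgt_ok : (List.range D.ns).all D.tgtB = true := by decide +kernel

theorem good : D.Good where
  m1 := by decide
  nsn := by decide +kernel
  rows := path0
  gau := by decide +kernel
  prm := by decide +kernel
  bnd := by decide +kernel
  tgt := fun r hr => (List.all_eq_true.1 tgt_ok) r (List.mem_range.2 hr)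
  ord := fun j hj => (List.all_eq_true.1 (show (List.range D.prm.length).all D.ordB = true by decide +kernel)) j (List.mem_range.2 hj)

theorem pc_ok : pcB 2 6 D.ns D.rules = true := by decide +kernel

/-- paths -/
def opaths0 : List (List ℕ × List Step) := [([0, 0, 0], [(0, 0, false), (0, 3, false), (1, 0, true)]),
  ([2, 2, 2], [(0, 11, false), (1, 13, false), (0, 12, false), (1, 11, true)]),
  ([3, 3, 2], [(0, 15, false), (1, 15, true), (0, 12, true), (1, 12, true)]),
  ([4, 4, 1], [(0, 18, false), (1, 18, true), (0, 9, true), (1, 9, true)]),
  ([5, 5, 2], [(0, 20, false), (1, 20, true), (0, 14, true), (1, 14, true)]),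
  ([1, 1, 1], [(0, 6, false), (2, 10, false), (1, 9, false), (0, 8, false), (1, 6, true)]),
  ([3, 2, 2], [(0, 12, false), (1, 12, false), (0, 11, false), (1, 16, false), (1, 11, true)]),
  ([4, 1, 1], [(0, 9, false), (1, 9, false), (0, 6, false), (2, 19, false), (0, 16, true), (1, 6, true)]),
  ([1, 0, 0], [(0, 1, false), (2, 5, false), (1, 1, false), (0, 0, false), (0, 8, false), (2, 20, false), (1, 0, true)]),
  ([6, 5, 2], [(1, 14, false), (0, 23, false), (3, 26, false), (2, 19, false), (1, 13, true), (0, 4, true), (1, 23, true), (0, 26, true)]),
  ([1, 1, 0], [(0, 6, false), (2, 5, false), (1, 4, false), (0, 3, false), (3, 20, true), (1, 6, true), (2, 10, true), (0, 1, true), (1, 1, true)]),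
  ([6, 5, 0], [(1, 5, false), (0, 21, false), (4, 26, false), (3, 19, false), (2, 16, true), (1, 13, true), (0, 9, true), (1, 21, true), (0, 26, true)])]

/-- rows -/
def orows0 : List ℕ := [0x8000000000004,
  0x20001000200000000000000000000000000000000000000000000000,
  0x20000000000006000000000000000000000000000000000000000000000000000,
  0x100000000000000000000000000000000000000c00000000000000000000000000000000000000,
  0x40000000000000000000000001800000000000000000000000000000000000000000000000000000000000,
  0x4000200010000000100000000000000000000000000,
  0x100000000000000002000200000000000000000000000000000000000000000000000,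
  0x800000000000300000000000000000000000000000400000000000100000000000000000000000000,
  0x10000000000000000000000000000000000000000000000000010000000000002000000000000000040004,
  0x1000000000000200000000000000000800000000000000000000400060000000000000000000000000000000000000300000000000000000,
  0x3000000000000000000000000000000000000000000c0000000000000001000020001000080000000c0000,
  0x1000000000000000000000800000000800000000000300000000000060000000000000000600000000000000002000000000000000000000]

theorem opath0 : Rows D.b (2 * 2) D.n 36 D.rules orows0 := rowsB_spec (ps := opaths0) (by decide +kernel)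
/-- rows -/
def orows : List ℕ := orows0

/-- certificates for the orders -/
def ocs : List ℕ := [0x2022012320, 0x222202210202]

theorem oord : (List.range D.prm.length).all (fun j => congB D.b (2 * 2) D.n (Nat.mul 2 (D.prm.getD j 0)) (comb orows (ocs.getD j 0))) = true := by decide +kernel

theorem ogood : OGood D 2 36 orows ocs where
  hrows := opath0
  bnd := by decide +kernel
  bnd2 := by decide +kernel
  ord := fun j hj => (List.all_eq_true.1 oord) j (List.mem_range.2 hj)

end Cfsg.Agent.MRel.SzC2
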